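import Mathlib
import Groth.Agent.CDivEq.Basic
import Groth.Prelude.Def_BlowUp2

/-!
# Stalks of ideal sheaves, and ideal sheaves from stalks
-/

set_option autoImplicit false
set_option linter.style.haveILetI false
set_option backward.isDefEq.respectTransparency false
set_option backward.isDefEq.respectTransparency.types false
universe u

open AlgebraicGeometry CategoryTheory TopologicalSpace IsLocalRing

namespace Groth.Agent.Div21Lib

variable {X Y : Scheme.{u}}

theorem exists_affine_mem (x : X) : ∃ U : X.affineOpens, x ∈ U.1 := by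
  obtain ⟨U, hU, hx, -⟩ := exists_isAffineOpen_mem_and_subset (x := x) (U := ⊤) trivial
  exact ⟨⟨U, hU⟩, hx⟩

/-- The stalk of an ideal sheaf. -/
noncomputable def st (I : X.IdealSheafData) (x : X) : Ideal (X.presheaf.stalk x) :=
  CDivEq.stk I (exists_affine_mem x).choose (exists_affine_mem x).choose_spec

theorem st_eq (I : X.IdealSheafData) (U : X.affineOpens) {x : X} (hx : x ∈ U.1) :
    st I x = CDivEq.stk I U hx :=
  CDivEq.stk_congr I _ U _ hx

theorem ext_st {I J : X.IdealSheafData} (h : ∀ x, st I x = st J x) : I = J := by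
  apply Scheme.IdealSheafData.ext
  funext U
  apply le_antisymm <;> refine CDivEq.le_of_stk _ _ U fun x hx => ?_ <;>
    rw [← st_eq _ U hx, ← st_eq _ U hx, h x]

theorem mem_of_germ {U : X.Opens} (hU : IsAffineOpen U) (K : Ideal Γ(X, U)) (t : Γ(X, U))
    (h : ∀ x (hx : x ∈ U), X.presheaf.germ U x hx t ∈ K.map (X.presheaf.germ U x hx).hom) : t ∈ K := by
  by_contra htK
  have htop : K.colon {t} ≠ ⊤ := fun ht => htK (by
    simpa using Submodule.mem_colon_singleton.1 (show (1 : Γ(X, U)) ∈ K.colon {t} by rw [ht]; trivial))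
  obtain ⟨m, hm, hle⟩ := Ideal.exists_le_maximal _ htop
  let x : X := hU.fromSpec ⟨m, hm.isPrime⟩
  have hx : x ∈ U := by
    rw [← SetLike.mem_coe, ← hU.range_fromSpec]
    exact Set.mem_range_self _
  haveI := hU.isOpenImmersion_fromSpec
  have hprime : hU.primeIdealOf ⟨x, hx⟩ = ⟨m, hm.isPrime⟩ :=
    hU.fromSpec.isOpenEmbedding.injective (hU.fromSpec_primeIdealOf _)
  letI := X.presheaf.algebra_section_stalk (U := U) ⟨x, hx⟩
  haveI := hU.isLocalization_stalk ⟨x, hx⟩
  have h1 : algebraMap Γ(X, U) (X.presheaf.stalk x) t ∈ K.map (algebraMap Γ(X, U) (X.presheaf.stalk x)) := h x hx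
  rw [IsLocalization.algebraMap_mem_map_algebraMap_iff (hU.primeIdealOf ⟨x, hx⟩).asIdeal.primeCompl] at h1
  obtain ⟨s, hs, hsf⟩ := h1
  exact hs (by rw [hprime]; exact hle (Submodule.mem_colon_singleton.2 hsf))

theorem exists_gen (I : X.IdealSheafData) (hI : BlowUp.IsEffCartierIdeal I) (x : X) :
    ∃ g : X.presheaf.stalk x, g ∈ nonZeroDivisors _ ∧ st I x = Ideal.span {g} := by
  obtain ⟨U, hx, f, hf, hUf⟩ := hI x
  exact ⟨X.presheaf.germ U.1 x hx f, CDivEq.germ_mem_nonZeroDivisors U hx hf, by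
    rw [st_eq I U hx, CDivEq.stk, hUf, Ideal.map_span, Set.image_singleton]⟩

theorem st_comap (f : X ⟶ Y) (I : Y.IdealSheafData) (x : X) :
    st (I.comap f) x = (st I (f x)).map (f.stalkMap x).hom := by
  obtain ⟨W, hW⟩ := exists_affine_mem (f x)
  obtain ⟨_, ⟨V, hV, rfl⟩, hxV, hVle⟩ := X.isBasis_affineOpens.exists_subset_of_mem_open
    (show x ∈ f ⁻¹ᵁ W.1 from hW) (f ⁻¹ᵁ W.1).isOpen
  rw [st_eq I W hW, st_eq _ ⟨V, hV⟩ hxV, CDivEq.stk, CDivEq.stk, ModPairLib.ideal_comap I f W ⟨V, hV⟩ hVle,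
    Ideal.map_map, Ideal.map_map, ← CommRingCat.hom_comp, ← CommRingCat.hom_comp]
  congr 2
  rw [Scheme.Hom.germ_stalkMap]
  simp only [Scheme.Hom.appLE, Category.assoc, TopCat.Presheaf.germ_res]

theorem st_specializes (I : X.IdealSheafData) {y x : X} (h : y ⤳ x) :
    st I y = (st I x).map (X.presheaf.stalkSpecializes h).hom := by
  obtain ⟨U, hx⟩ := exists_affine_mem x
  rw [st_eq I U hx, st_eq I U (h.mem_open U.1.isOpen hx), CDivEq.stk, CDivEq.stk, Ideal.map_map,
    ← CommRingCat.hom_comp, X.presheaf.germ_stalkSpecializes]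

theorem notMem_support_iff (I : X.IdealSheafData) (x : X) : x ∉ (I.support : Set X) ↔ st I x = ⊤ := by
  obtain ⟨U, hx⟩ := exists_affine_mem x
  rw [CDivEq.mem_support_iff I U hx, not_not, st_eq I U hx]

theorem ideal_spec_top (A : CommRingCat.{u}) (I : (Spec A).IdealSheafData) :
    ∀ z : Spec A, st I z = (I.ideal ⟨⊤, isAffineOpen_top _⟩).map ((Spec A).presheaf.germ ⊤ z trivial).hom :=
  fun _ => st_eq I ⟨⊤, isAffineOpen_top _⟩ trivial

/-- pullback to a local scheme -/
theorem ideal_comap_fromSpecStalk (J : X.IdealSheafData) (x : X) :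
    (J.comap (X.fromSpecStalk x)).ideal ⟨⊤, isAffineOpen_top _⟩ =
      (st J x).map (Scheme.ΓSpecIso (X.presheaf.stalk x)).inv.hom := by
  obtain ⟨U, hx⟩ := exists_affine_mem x
  have he : (⊤ : (Spec (X.presheaf.stalk x)).Opens) ≤ X.fromSpecStalk x ⁻¹ᵁ U.1 := by
    intro z _
    exact (PurBirAux z).mem_open U.1.isOpen hx
  rw [ModPairLib.ideal_comap J (X.fromSpecStalk x) U ⟨⊤, isAffineOpen_top _⟩ he, st_eq J U hx, CDivEq.stk,
    Ideal.map_map, ← CommRingCat.hom_comp]
  congr 2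
  rw [Scheme.Hom.appLE, Scheme.fromSpecStalk_app hx, Category.assoc, Category.assoc, ← Functor.map_comp]
  erw [(Spec (X.presheaf.stalk x)).presheaf.map_id]
  rw [Category.comp_id]
where
  PurBirAux {X : Scheme.{u}} {x : X} (z : Spec (X.presheaf.stalk x)) : X.fromSpecStalk x z ⤳ x := by
    have : X.fromSpecStalk x z ∈ Set.range (X.fromSpecStalk x) := ⟨z, rfl⟩
    rwa [Scheme.range_fromSpecStalk] at this

variable (Q : ∀ x : X, Ideal (X.presheaf.stalk x))
  (hQ : ∀ x : X, ∃ U : X.Opens, x ∈ U ∧ ∃ a : Γ(X, U), ∀ z (hz : z ∈ U), Q z = Ideal.span {X.presheaf.germ U z hz a})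

/-- sections with all germs in the given ideals -/
noncomputable def sectionsIn (U : X.Opens) : Ideal Γ(X, U) :=
  ⨅ (z : X) (hz : z ∈ U), (Q z).comap (X.presheaf.germ U z hz).hom

theorem mem_sectionsIn {U : X.Opens} {s : Γ(X, U)} :
    s ∈ sectionsIn Q U ↔ ∀ z (hz : z ∈ U), X.presheaf.germ U z hz s ∈ Q z := by
  simp [sectionsIn]

theorem sectionsIn_eq_span {U : X.Opens} (hU : IsAffineOpen U) {a : Γ(X, U)}
    (ha : ∀ z (hz : z ∈ U), Q z = Ideal.span {X.presheaf.germ U z hz a}) :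
    sectionsIn Q U = Ideal.span {a} := by
  ext s
  rw [mem_sectionsIn]
  refine ⟨fun h => mem_of_germ hU _ s fun z hz => ?_, fun h z hz => ?_⟩
  · rw [Ideal.map_span, Set.image_singleton]
    exact ha z hz ▸ h z hz
  · rw [ha z hz, ← Set.image_singleton, ← Ideal.map_span]
    exact Ideal.mem_map_of_mem _ h

include hQ in
theorem exists_pow_mul_mem {U : X.Opens} (hU : IsAffineOpen U) (f t : Γ(X, U))
    (ht : ∀ z (hz : z ∈ U), z ∈ X.basicOpen f → X.presheaf.germ U z hz t ∈ Q z) :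
    ∃ k, f ^ k * t ∈ sectionsIn Q U := by
  classical
  have hloc : ∀ w : U, ∃ (h : Γ(X, U)) (k : ℕ), w.1 ∈ X.basicOpen h ∧
      ∀ z (hz : z ∈ U), z ∈ X.basicOpen h → X.presheaf.germ U z hz (f ^ k * t) ∈ Q z := by
    rintro ⟨w, hw⟩
    obtain ⟨W, hwW, a, ha⟩ := hQ w
    obtain ⟨h, hle, hwh⟩ := hU.exists_basicOpen_le ⟨w, hwW⟩ hw
    have hD : IsAffineOpen (X.basicOpen h) := hU.basicOpen h
    let r := X.presheaf.map (homOfLE (X.basicOpen_le h)).op
    let a' := X.presheaf.map (homOfLE hle).op a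
    have hQ' : ∀ z (hz : z ∈ X.basicOpen h), Q z = Ideal.span {X.presheaf.germ (X.basicOpen h) z hz a'} := fun z hz => by
      rw [ha z (hle hz)]
      congr 2
      exact (X.presheaf.germ_res_apply (homOfLE hle) z hz a).symm
    let f' := r f
    letI := (X.presheaf.map (homOfLE (X.basicOpen_le f')).op).hom.toAlgebra
    haveI : IsLocalization.Away f' Γ(X, X.basicOpen f') := hD.isLocalization_basicOpen f'
    have hm : algebraMap Γ(X, X.basicOpen h) Γ(X, X.basicOpen f') (r t) ∈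
        (Ideal.span {a'}).map (algebraMap Γ(X, X.basicOpen h) Γ(X, X.basicOpen f')) := by
      refine mem_of_germ (hD.basicOpen f') _ _ fun z hz => ?_
      have hzh : z ∈ X.basicOpen h := X.basicOpen_le f' hz
      have hzf : z ∈ X.basicOpen f := by
        have := hz
        rw [X.basicOpen_res] at this
        exact this.2
      rw [RingHom.algebraMap_toAlgebra, Ideal.map_map, ← CommRingCat.hom_comp, X.presheaf.germ_res,
        Ideal.map_span, Set.image_singleton, ← hQ' z hzh]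
      rw [show X.presheaf.germ (X.basicOpen f') z hz ((X.presheaf.map (homOfLE (X.basicOpen_le f')).op).hom (r t)) =
        X.presheaf.germ U z (X.basicOpen_le h hzh) t from
        (X.presheaf.germ_res_apply _ z hz _).trans (X.presheaf.germ_res_apply _ z hzh t)]
      exact ht z _ hzf
    rw [IsLocalization.algebraMap_mem_map_algebraMap_iff (Submonoid.powers f')] at hm
    obtain ⟨_, ⟨k, rfl⟩, hk⟩ := hm
    refine ⟨h, k, hwh, fun z hz hzh => ?_⟩
    rw [hQ' z hzh, ← Set.image_singleton, ← Ideal.map_span]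
    have hk' : r (f ^ k * t) ∈ Ideal.span {a'} := by rw [map_mul, map_pow]; exact hk
    have := Ideal.mem_map_of_mem (X.presheaf.germ (X.basicOpen h) z hzh).hom hk'
    exact (X.presheaf.germ_res_apply (homOfLE (X.basicOpen_le h)) z hzh (f ^ k * t)) ▸ this
  choose hh kk hwh hmem using hloc
  obtain ⟨σ, hσ⟩ := hU.isCompact.elim_finite_subcover (fun w : U => (X.basicOpen (hh w) : Set X))
    (fun w => (X.basicOpen (hh w)).isOpen) (fun w hw => Set.mem_iUnion.2 ⟨⟨w, hw⟩, hwh ⟨w, hw⟩⟩)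
  refine ⟨σ.sup kk, (mem_sectionsIn Q).2 fun z hz => ?_⟩
  obtain ⟨w, hw, hzw⟩ := Set.mem_iUnion₂.1 (hσ hz)
  obtain ⟨j, hj⟩ := Nat.exists_eq_add_of_le (Finset.le_sup (f := kk) hw)
  rw [hj, show f ^ (kk w + j) * t = f ^ j * (f ^ kk w * t) by ring, map_mul]
  exact (Q z).mul_mem_left _ (hmem w z hz hzw)

/-- The ideal sheaf with given stalks. -/
noncomputable def ofStalks : X.IdealSheafData where
  ideal U := sectionsIn Q U.1
  map_ideal_basicOpen := by
    intro U f
    letI := (X.presheaf.map (homOfLE (X.basicOpen_le f)).op).hom.toAlgebra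
    haveI : IsLocalization.Away f Γ(X, X.basicOpen f) := U.2.isLocalization_basicOpen f
    refine le_antisymm (Ideal.map_le_iff_le_comap.2 fun s hs => (mem_sectionsIn Q).2 fun z hz => ?_) fun s hs => ?_
    · show X.presheaf.germ (X.basicOpen f) z hz _ ∈ Q z
      erw [X.presheaf.germ_res_apply _ z hz s]
      exact (mem_sectionsIn Q).1 hs z _
    · obtain ⟨⟨t, ⟨_, n, rfl⟩⟩, hts⟩ := IsLocalization.surj (Submonoid.powers f) (S := Γ(X, X.basicOpen f)) s
      obtain ⟨k, hk⟩ := exists_pow_mul_mem Q hQ U.2 f t fun z hz hzf => by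
        have h1 := congrArg (X.presheaf.germ (X.basicOpen f) z hzf).hom hts
        rw [map_mul, RingHom.algebraMap_toAlgebra] at h1
        erw [X.presheaf.germ_res_apply _ z hzf t] at h1
        erw [← h1]
        exact Ideal.mul_mem_right _ _ ((mem_sectionsIn Q).1 hs z hzf)
      have hu : IsUnit (algebraMap Γ(X, U.1) Γ(X, X.basicOpen f) f) := IsLocalization.Away.algebraMap_isUnit f
      show s ∈ (sectionsIn Q U.1).map (algebraMap Γ(X, U.1) Γ(X, X.basicOpen f))
      rw [← Ideal.mul_unit_mem_iff_mem _ ((hu.pow n).mul (hu.pow k))]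
      have h2 : s * (algebraMap Γ(X, U.1) Γ(X, X.basicOpen f) f ^ n * algebraMap Γ(X, U.1) Γ(X, X.basicOpen f) f ^ k) =
          algebraMap _ _ (f ^ k * t) := by
        rw [map_mul, map_pow, ← hts, map_pow]
        ring
      rw [h2]
      exact Ideal.mem_map_of_mem _ hk

theorem st_ofStalks (x : X) : st (ofStalks Q hQ) x = Q x := by
  obtain ⟨W, hxW, a, ha⟩ := hQ x
  obtain ⟨V, hV, hxV, hVW⟩ := exists_isAffineOpen_mem_and_subset (x := x) (U := W) hxW
  have ha' : ∀ z (hz : z ∈ V), Q z = Ideal.span {X.presheaf.germ V z hz (X.presheaf.map (homOfLE hVW).op a)} :=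
    fun z hz => by rw [ha z (hVW hz)]; congr 2; exact (X.presheaf.germ_res_apply (homOfLE hVW) z hz a).symm
  rw [st_eq _ ⟨V, hV⟩ hxV, CDivEq.stk, show (ofStalks Q hQ).ideal ⟨V, hV⟩ = sectionsIn Q V from rfl,
    sectionsIn_eq_span Q hV ha', Ideal.map_span, Set.image_singleton]
  exact (ha' x hxV).symm

theorem isEffCartier_ofStalks (hnzd : ∀ x : X, ∀ g, Q x = Ideal.span {g} → g ∈ nonZeroDivisors (X.presheaf.stalk x)) :
    BlowUp.IsEffCartierIdeal (ofStalks Q hQ) := by
  intro x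
  obtain ⟨W, hxW, a, ha⟩ := hQ x
  obtain ⟨V, hV, hxV, hVW⟩ := exists_isAffineOpen_mem_and_subset (x := x) (U := W) hxW
  let a' := X.presheaf.map (homOfLE hVW).op a
  have ha' : ∀ z (hz : z ∈ V), Q z = Ideal.span {X.presheaf.germ V z hz a'} :=
    fun z hz => by rw [ha z (hVW hz)]; congr 2; exact (X.presheaf.germ_res_apply (homOfLE hVW) z hz a).symm
  refine ⟨⟨V, hV⟩, hxV, a', ?_, sectionsIn_eq_span Q hV ha'⟩
  rw [mem_nonZeroDivisors_iff_right]
  intro s hs
  have h0 := mem_of_germ hV ⊥ s fun z hz => by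
    rw [Ideal.map_bot, Ideal.mem_bot]
    refine (mem_nonZeroDivisors_iff_right.1 (hnzd z _ (ha' z hz))) _ ?_
    rw [← map_mul, hs, map_zero]
  exact h0

end Groth.Agent.Div21Lib
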