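import Mathlib
import Groth.Agent.Alg6.AssDepth

/-!
# Principal ideals along flat local homomorphisms
-/

set_option autoImplicit false
set_option linter.style.haveILetI false
universe u

open IsLocalRing TensorProduct

namespace Groth.Agent.Div21Lib

variable {A B : Type u} [CommRing A] [CommRing B] [Algebra A B]

/-- A flat extension keeps an element regular modulo an ideal. -/
theorem mem_map_of_mul_mem [Module.Flat A B] {I : Ideal A} {a : A} (ha : IsSMulRegular (A ⧸ I) a) {b : B}
    (h : algebraMap A B a * b ∈ I.map (algebraMap A B)) : b ∈ I.map (algebraMap A B) := by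
  have h1 : IsSMulRegular (B ⊗[A] (A ⧸ I)) a := IsSMulRegular.lTensor B ha
  let e := (Algebra.TensorProduct.quotIdealMapEquivTensorQuot B I).toLinearEquiv.restrictScalars A
  have h2 : IsSMulRegular (B ⧸ I.map (algebraMap A B)) a := fun u v huv => e.injective (h1 (by
    show a • e u = a • e v
    rw [← map_smul, ← map_smul]
    exact congrArg e huv))
  refine Ideal.Quotient.eq_zero_iff_mem.1 (h2 (show a • Ideal.Quotient.mk _ b = a • 0 from ?_))
  rw [smul_zero, Algebra.smul_def, IsScalarTower.algebraMap_apply A B (B ⧸ I.map (algebraMap A B)),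
    Ideal.Quotient.algebraMap_eq, ← map_mul, Ideal.Quotient.eq_zero_iff_mem]
  exact h

variable [IsLocalRing A] [IsNoetherianRing A] [Module.Flat A B]

/-- In depth two, membership in a principal ideal upstairs may be tested after multiplication by the maximal ideal. -/
theorem mem_of_maximal_mul_mem (hd : (2 : ℕ∞) ≤ LocCoh.depth A A) {t : B} (ht : t ∈ nonZeroDivisors B) {b : B}
    (h : ∀ a ∈ maximalIdeal A, algebraMap A B a * b ∈ Ideal.span {t}) : b ∈ Ideal.span {t} := by
  obtain ⟨h0, h1⟩ := Alg6.two_le_depth_iff'.1 hd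
  obtain ⟨x, hx, hxreg⟩ := (Alg6.exists_isSMulRegular_mem_iff (M := A) (maximalIdeal A)).mpr
    (fun p hp hle => h0 (by
      rwa [(maximalIdeal.isMaximal A).eq_of_le (IsAssociatedPrime.isPrime hp).ne_top hle]))
  obtain ⟨y, hy, hyreg⟩ := (Alg6.exists_isSMulRegular_mem_iff (M := QuotSMulTop x A) (maximalIdeal A)).mpr
    (fun p hp hle => h1 x hx hxreg (by
      rwa [(maximalIdeal.isMaximal A).eq_of_le (IsAssociatedPrime.isPrime hp).ne_top hle]))
  have hyreg' : IsSMulRegular (A ⧸ Ideal.span {x}) y := by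
    let e : (A ⧸ Ideal.span {x}) ≃ₗ[A] QuotSMulTop x A := Submodule.quotEquivOfEq _ _ (by
      ext z
      rw [Submodule.mem_smul_pointwise_iff_exists, Ideal.mem_span_singleton']
      exact ⟨fun ⟨w, hw⟩ => ⟨w, trivial, by rw [smul_eq_mul, mul_comm]; exact hw⟩,
        fun ⟨w, _, hw⟩ => ⟨w, by rw [mul_comm, ← smul_eq_mul]; exact hw⟩⟩)
    exact fun u v huv => e.injective (hyreg (show y • e u = y • e v by rw [← map_smul, ← map_smul]; exact congrArg e huv))
  obtain ⟨u, hu⟩ := Ideal.mem_span_singleton'.1 (h x hx)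
  obtain ⟨v, hv⟩ := Ideal.mem_span_singleton'.1 (h y hy)
  have h2 : algebraMap A B y * u = algebraMap A B x * v := by
    refine mul_cancel_right_mem_nonZeroDivisors ht |>.1 ?_
    rw [mul_assoc, hu, mul_assoc, hv]
    ring
  have h3 : u ∈ (Ideal.span {x}).map (algebraMap A B) := by
    refine mem_map_of_mul_mem hyreg' ?_
    rw [h2]
    exact Ideal.mul_mem_right _ _ (Ideal.mem_map_of_mem _ (Ideal.mem_span_singleton_self x))
  rw [Ideal.map_span, Set.image_singleton, Ideal.mem_span_singleton'] at h3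
  obtain ⟨w, hw⟩ := h3
  refine Ideal.mem_span_singleton'.2 ⟨w, ?_⟩
  have hxB : IsSMulRegular B (algebraMap A B x) := hxreg.of_flat
  refine hxB (show algebraMap A B x * (w * t) = algebraMap A B x * b from ?_)
  rw [← hu, ← hw]
  ring

/-- some element of the maximal ideal is regular modulo a contracted principal ideal -/
theorem exists_regular_quot_comap (hd : (2 : ℕ∞) ≤ LocCoh.depth A A) {t : B} (ht : t ∈ nonZeroDivisors B) :
    ∃ a ∈ maximalIdeal A, IsSMulRegular (A ⧸ (Ideal.span {t}).comap (algebraMap A B)) a := by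
  let I := (Ideal.span {t}).comap (algebraMap A B)
  refine (Alg6.exists_isSMulRegular_mem_iff (M := A ⧸ I) (maximalIdeal A)).mpr fun p hp hle => ?_
  rw [← (maximalIdeal.isMaximal A).eq_of_le (IsAssociatedPrime.isPrime hp).ne_top hle] at hp
  obtain ⟨-, z, hz⟩ := Alg6.mem_ass_iff.mp hp
  obtain ⟨c, rfl⟩ := Ideal.Quotient.mk_surjective z
  have hz' : ∀ r : A, r ∈ maximalIdeal A ↔ r * c ∈ I := fun r => by
    rw [hz, Algebra.smul_def, Ideal.Quotient.algebraMap_eq, ← map_mul, Ideal.Quotient.eq_zero_iff_mem]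
  have hc : c ∈ I := mem_of_maximal_mul_mem hd ht fun a ha => by
    rw [← map_mul]
    exact (hz' a).1 ha
  exact (maximalIdeal.isMaximal A).ne_top ((Ideal.eq_top_iff_one _).2 ((hz' 1).2 (by rwa [one_mul])))

omit [Module.Flat A B] in
/-- contractions of principal ideals agree if they agree off the closed point -/
theorem comap_le_comap {B' : Type u} [CommRing B'] [Algebra A B'] [Module.Flat A B'] (hd : (2 : ℕ∞) ≤ LocCoh.depth A A)
    {t' : B'} (ht' : t' ∈ nonZeroDivisors B') (t : B)
    (h : ∀ (p : Ideal A) [p.IsPrime], p ≠ maximalIdeal A → ∀ c ∈ (Ideal.span {t}).comap (algebraMap A B),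
      ∃ s ∉ p, s * c ∈ (Ideal.span {t'}).comap (algebraMap A B')) :
    (Ideal.span {t}).comap (algebraMap A B) ≤ (Ideal.span {t'}).comap (algebraMap A B') := by
  intro c hc
  obtain ⟨a, ha, hreg⟩ := exists_regular_quot_comap hd ht'
  set I' := (Ideal.span {t'}).comap (algebraMap A B')
  by_contra hc'
  -- the colon ideal meets the multiplicative set of the powers of `a`
  by_cases hK : ∃ n : ℕ, a ^ n * c ∈ I'
  · obtain ⟨n, hn⟩ := hK
    refine hc' (Ideal.Quotient.eq_zero_iff_mem.1 ((hreg.pow n) ?_))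
    show (a ^ n) • (Ideal.Quotient.mk I' c) = (a ^ n) • 0
    rw [smul_zero, Algebra.smul_def, Ideal.Quotient.algebraMap_eq, ← map_mul, Ideal.Quotient.eq_zero_iff_mem]
    exact hn
  · push Not at hK
    obtain ⟨p, hp, hle, hdisj⟩ := Ideal.exists_le_prime_disjoint (Submodule.colon I' {c}) (Submonoid.powers a) (by
      rw [Set.disjoint_left]
      rintro r hr ⟨n, rfl⟩
      exact hK n (by simpa using Submodule.mem_colon_singleton.1 hr))
    haveI := hp
    have hne : p ≠ maximalIdeal A := fun e => Set.disjoint_left.1 hdisj (e ▸ ha) ⟨1, pow_one a⟩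
    obtain ⟨s, hs, hsc⟩ := h p hne c hc
    exact hs (hle (Submodule.mem_colon_singleton.2 (by simpa using hsc)))

variable [IsLocalRing B] [IsLocalHom (algebraMap A B)]

/-- descent of a principal ideal from the punctured spectrum in depth two -/
theorem exists_generator (hd : (2 : ℕ∞) ≤ LocCoh.depth A A) {t : B} (ht : t ∈ nonZeroDivisors B)
    (h : ∀ (P : Ideal B) [P.IsPrime], P.comap (algebraMap A B) ≠ maximalIdeal A →
      ∃ s ∉ P, s * t ∈ ((Ideal.span {t}).comap (algebraMap A B)).map (algebraMap A B)) :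
    ∃ a : A, a ∈ nonZeroDivisors A ∧ (Ideal.span {t}).comap (algebraMap A B) = Ideal.span {a} ∧
      Ideal.span {algebraMap A B a} = Ideal.span {t} := by
  haveI : Module.FaithfullyFlat A B := Module.FaithfullyFlat.of_flat_of_isLocalHom
  obtain ⟨a, ha, hreg⟩ := exists_regular_quot_comap (A := A) hd ht
  set I := (Ideal.span {t}).comap (algebraMap A B) with hI
  set J := I.map (algebraMap A B) with hJ
  have htJ : t ∈ J := by
    by_cases hK : ∃ n : ℕ, algebraMap A B (a ^ n) * t ∈ J
    · obtain ⟨n, hn⟩ := hK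
      exact mem_map_of_mul_mem (hreg.pow n) hn
    · push Not at hK
      obtain ⟨P, hP, hle, hdisj⟩ := Ideal.exists_le_prime_disjoint (Submodule.colon J {t})
        ((Submonoid.powers a).map (algebraMap A B)) (by
          rw [Set.disjoint_left]
          rintro r hr ⟨_, ⟨n, rfl⟩, rfl⟩
          exact hK n (by simpa using Submodule.mem_colon_singleton.1 hr))
      haveI := hP
      have hne : P.comap (algebraMap A B) ≠ maximalIdeal A := fun e =>
        Set.disjoint_left.1 hdisj (show algebraMap A B a ∈ P from (e ▸ ha : a ∈ P.comap (algebraMap A B)))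
          ⟨a, ⟨1, pow_one a⟩, rfl⟩
      obtain ⟨s, hs, hst⟩ := h P hne
      exact absurd (hle (Submodule.mem_colon_singleton.2 (by simpa using hst))) hs
  obtain ⟨i, hi, hiu⟩ : ∃ i ∈ I, Ideal.span {algebraMap A B i} = Ideal.span {t} := by
    by_contra hno
    push Not at hno
    have hle : J ≤ Ideal.span {t} * maximalIdeal B := by
      refine Ideal.map_le_iff_le_comap.2 fun i hi => ?_
      obtain ⟨u, hu⟩ := Ideal.mem_span_singleton'.1 (show algebraMap A B i ∈ Ideal.span {t} from hi)
      rw [Ideal.mem_comap, ← hu, mul_comm u]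
      refine Ideal.mul_mem_mul (Ideal.mem_span_singleton_self t) fun hu' => hno i hi ?_
      rw [← hu, mul_comm, Ideal.span_singleton_mul_right_unit hu']
    obtain ⟨z, hz, hzt⟩ := Ideal.mem_span_singleton_mul.1 (hle htJ)
    have h1 : t * (1 - z) = 0 := by linear_combination -hzt
    have h2 : (1 : B) - z = 0 := mul_left_mem_nonZeroDivisors_eq_zero_iff ht |>.1 h1
    rw [← sub_eq_zero.1 h2] at hz
    exact hz isUnit_one
  refine ⟨i, ?_, ?_, hiu⟩
  · rw [mem_nonZeroDivisors_iff_right]
    intro x hx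
    obtain ⟨w, hw⟩ := Ideal.mem_span_singleton'.1 (hiu.ge (Ideal.mem_span_singleton_self t))
    have h1 : algebraMap A B x * t = 0 := by
      rw [← hw, mul_left_comm, ← map_mul, hx, map_zero, mul_zero]
    have h2 := mul_right_mem_nonZeroDivisors_eq_zero_iff ht |>.1 h1
    exact FaithfulSMul.algebraMap_injective A B (h2.trans (map_zero _).symm)
  · rw [hI, ← hiu, ← Set.image_singleton, ← Ideal.map_span, Ideal.comap_map_eq_self_of_faithfullyFlat]

omit [Algebra A B] [IsLocalRing A] [IsNoetherianRing A] [Module.Flat A B] [IsLocalHom (algebraMap A B)] in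
/-- comparing a principal ideal with a power of an element -/
theorem span_eq_span_pow [IsNoetherianRing B] {t g : B} (ht : t ∈ nonZeroDivisors B) (n : ℕ)
    (hass : ∀ P ∈ associatedPrimes B (B ⧸ Ideal.span {t}), P ∈ (Ideal.span {t}).minimalPrimes)
    (h1 : ∀ (P : Ideal B) [P.IsPrime], t ∉ P → g ∉ P)
    (h2 : ∀ P ∈ (Ideal.span {t}).minimalPrimes, ∀ [P.IsPrime],
      (Ideal.span {g}).map (algebraMap B (Localization.AtPrime P)) =
        (Ideal.span {t ^ n}).map (algebraMap B (Localization.AtPrime P))) :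
    Ideal.span {g} = Ideal.span {t ^ n} := by
  have hstep : ∀ k, k ≤ n → g ∈ Ideal.span {t ^ k} := by
    intro k
    induction k with
    | zero => intro _; simp
    | succ k ih =>
      intro hk
      obtain ⟨v, hv⟩ := Ideal.mem_span_singleton'.1 (ih (by omega))
      suffices hvt : v ∈ Ideal.span {t} by
        obtain ⟨w, hw⟩ := Ideal.mem_span_singleton'.1 hvt
        exact Ideal.mem_span_singleton'.2 ⟨w, by rw [← hv, ← hw, pow_succ]; ring⟩
      by_contra hvt
      obtain ⟨P, hP, hle⟩ := exists_le_isAssociatedPrime_of_isNoetherianRing B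
        (Ideal.Quotient.mk (Ideal.span {t}) v) (fun h => hvt (Ideal.Quotient.eq_zero_iff_mem.1 h))
      haveI := hP.isPrime
      have hmin := hass P hP
      have h3 : algebraMap B (Localization.AtPrime P) g ∈ (Ideal.span {t ^ n}).map (algebraMap B _) := by
        rw [← h2 P hmin]; exact Ideal.mem_map_of_mem _ (Ideal.mem_span_singleton_self g)
      rw [IsLocalization.algebraMap_mem_map_algebraMap_iff P.primeCompl] at h3
      obtain ⟨s, hs, hsg⟩ := h3
      obtain ⟨w, hw⟩ := Ideal.mem_span_singleton'.1 hsg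
      refine hs (hle (Submodule.mem_colon_singleton.2 ?_))
      rw [Submodule.mem_bot, Algebra.smul_def, Ideal.Quotient.algebraMap_eq, ← map_mul,
        Ideal.Quotient.eq_zero_iff_mem, Ideal.mem_span_singleton']
      obtain ⟨j, rfl⟩ : ∃ j, n = k + (j + 1) := ⟨n - k - 1, by omega⟩
      refine ⟨w * t ^ j, mul_cancel_right_mem_nonZeroDivisors (pow_mem ht k) |>.1 ?_⟩
      linear_combination hw - s * hv
  obtain ⟨u, hu⟩ := Ideal.mem_span_singleton'.1 (hstep n le_rfl)
  suffices hu' : IsUnit u by
    rw [← hu, mul_comm, Ideal.span_singleton_mul_right_unit hu']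
  by_contra hnu
  obtain ⟨P, hP, -⟩ := Ideal.exists_minimalPrimes_le (I := Ideal.span {u}) (J := maximalIdeal B)
    ((Ideal.span_singleton_le_iff_mem _).2 hnu)
  haveI : P.IsPrime := hP.1.1
  have huP : u ∈ P := hP.1.2 (Ideal.mem_span_singleton_self u)
  have htP : t ∈ P := by
    by_contra htP
    exact h1 P htP (hu ▸ P.mul_mem_right _ huP)
  have hnm : P ∉ (Ideal.span {t}).minimalPrimes := fun hm => by
    have h3 : algebraMap B (Localization.AtPrime P) (t ^ n) ∈ (Ideal.span {g}).map (algebraMap B _) := by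
      rw [h2 P hm]; exact Ideal.mem_map_of_mem _ (Ideal.mem_span_singleton_self _)
    rw [IsLocalization.algebraMap_mem_map_algebraMap_iff P.primeCompl] at h3
    obtain ⟨s, hs, hst⟩ := h3
    obtain ⟨w, hw⟩ := Ideal.mem_span_singleton'.1 hst
    have h4 : (s - w * u) * t ^ n = 0 := by linear_combination -hw + w * hu.symm
    have h5 := mul_right_mem_nonZeroDivisors_eq_zero_iff (pow_mem ht n) |>.1 h4
    exact hs (by rw [sub_eq_zero.1 h5]; exact P.mul_mem_left _ huP)
  obtain ⟨q, hq, hqP⟩ := Ideal.exists_minimalPrimes_le (I := Ideal.span {t}) (J := P)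
    ((Ideal.span_singleton_le_iff_mem _).2 htP)
  haveI : q.IsPrime := hq.1.1
  have hq1 : 1 ≤ q.height := by
    rw [Order.one_le_iff_ne_zero]
    intro h0
    rw [Ideal.height_eq_zero_iff] at h0
    exact Set.disjoint_left.1 (Ideal.disjoint_nonZeroDivisors_of_mem_minimalPrimes h0)
      (hq.1.2 (Ideal.mem_span_singleton_self t)) ht
  have hlt : q < P := lt_of_le_of_ne hqP fun e => hnm (e ▸ hq)
  have hP1 : P.height ≤ 1 := Ideal.height_le_one_of_isPrincipal_of_mem_minimalPrimes _ _ hP
  have hqP' := Ideal.height_strict_mono_of_isPrime hlt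
  exact (hqP'.trans_le hP1).not_ge hq1

end Groth.Agent.Div21Lib
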