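import Groth.Agent.Div21Lib.Alg
import Groth.Agent.Div21Lib.Stalks
import Mathlib.AlgebraicGeometry.Morphisms.Flat

/-!
# Descent of effective Cartier divisors along faithfully flat morphisms
-/

set_option autoImplicit false
set_option linter.style.haveILetI false
set_option backward.isDefEq.respectTransparency false
set_option backward.isDefEq.respectTransparency.types false
universe u

open AlgebraicGeometry CategoryTheory CategoryTheory.Limits TopologicalSpace IsLocalRing
open Groth.Agent.CDiv6 (primeOf)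

namespace Groth.Agent.Div21Lib

variable {X Y : Scheme.{u}} (f : X ⟶ Y)

/-- the map from the local ring of a specialization of the image -/
noncomputable def psi (x : X) {y : Y} (h : f x ⤳ y) : Y.presheaf.stalk y →+* X.presheaf.stalk x :=
  (f.stalkMap x).hom.comp (Y.presheaf.stalkSpecializes h).hom

theorem psi_refl (x : X) : psi f x (specializes_rfl : f x ⤳ f x) = (f.stalkMap x).hom := by
  rw [psi, TopCat.Presheaf.stalkSpecializes_refl]; rfl

theorem spec_psi {x' x : X} (hx : x' ⤳ x) {y : Y} (h : f x ⤳ y) (c : Y.presheaf.stalk y) :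
    (X.presheaf.stalkSpecializes hx).hom (psi f x h c) = psi f x' ((hx.map f.continuous).trans h) c := by
  refine (Scheme.Hom.stalkSpecializes_stalkMap_apply f x' x hx _).symm.trans ?_
  show (f.stalkMap x').hom _ = (f.stalkMap x').hom _
  congr 1
  exact RingHom.congr_fun (congrArg CommRingCat.Hom.hom
    (Y.presheaf.stalkSpecializes_comp (hx.map f.continuous) h)) c

theorem psi_spec (x : X) {y' y : Y} (h : f x ⤳ y') (h' : y' ⤳ y) (c : Y.presheaf.stalk y) :
    psi f x h ((Y.presheaf.stalkSpecializes h').hom c) = psi f x (h.trans h') c := by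
  show (f.stalkMap x).hom _ = (f.stalkMap x).hom _
  congr 1
  exact RingHom.congr_fun (congrArg CommRingCat.Hom.hom (Y.presheaf.stalkSpecializes_comp h h')) c

theorem flat_psi [Flat f] (x : X) {y : Y} (h : f x = y) :
    (psi f x (specializes_of_eq h)).Flat ∧ IsLocalHom (psi f x (specializes_of_eq h)) := by
  subst h
  rw [psi_refl]
  exact ⟨Flat.stalkMap f x, inferInstance⟩

theorem comap_map_psi [Flat f] (x : X) {y : Y} (h : f x = y) (I : Ideal (Y.presheaf.stalk y)) :
    (I.map (psi f x (specializes_of_eq h))).comap (psi f x (specializes_of_eq h)) = I := by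
  obtain ⟨h1, h2⟩ := flat_psi f x h
  algebraize [psi f x (specializes_of_eq h)]
  haveI : IsLocalHom (algebraMap (Y.presheaf.stalk y) (X.presheaf.stalk x)) := h2
  haveI : Module.FaithfullyFlat (Y.presheaf.stalk y) (X.presheaf.stalk x) :=
    Module.FaithfullyFlat.of_flat_of_isLocalHom
  exact Ideal.comap_map_eq_self_of_faithfullyFlat I

theorem spec_mem_nonZeroDivisors {y' y : Y} (h : y' ⤳ y) {a : Y.presheaf.stalk y} (ha : a ∈ nonZeroDivisors _) :
    (Y.presheaf.stalkSpecializes h).hom a ∈ nonZeroDivisors (Y.presheaf.stalk y') := by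
  letI := (Y.presheaf.stalkSpecializes h).hom.toAlgebra
  haveI : IsLocalization.AtPrime (Y.presheaf.stalk y') (primeOf h).asIdeal := H23.StalkPrimes.isLocalization_primeOf h
  exact IsLocalization.nonZeroDivisors_le_comap (primeOf h).asIdeal.primeCompl (Y.presheaf.stalk y') ha

/-- lifting a generisation -/
theorem exists_lift [Flat f] (x : X) {y' : Y} (h : y' ⤳ f x) : ∃ x' : X, x' ⤳ x ∧ f x' = y' := by
  algebraize [(f.stalkMap x).hom]
  haveI : IsLocalHom (algebraMap (Y.presheaf.stalk (f x)) (X.presheaf.stalk x)) :=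
    (inferInstance : IsLocalHom (f.stalkMap x).hom)
  haveI : Module.Flat (Y.presheaf.stalk (f x)) (X.presheaf.stalk x) := Flat.stalkMap f x
  haveI : Module.FaithfullyFlat (Y.presheaf.stalk (f x)) (X.presheaf.stalk x) :=
    Module.FaithfullyFlat.of_flat_of_isLocalHom
  obtain ⟨P, hP⟩ := PrimeSpectrum.comap_surjective_of_faithfullyFlat (B := X.presheaf.stalk x) (primeOf h)
  obtain ⟨x', hx', hPx⟩ := H23.StalkPrimes.exists_point P.asIdeal
  refine ⟨x', hx', H23.StalkPrimes.primeOf_inj (hx'.map f.continuous) h ?_⟩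
  rw [← H23.StalkPrimes.comap_primeOf f hx', hPx, ← hP]
  rfl

variable (J : X.IdealSheafData)

/-- `a` generates the descended ideal at all generisations of `y` -/
def IsGen (y : Y) (a : Y.presheaf.stalk y) : Prop :=
  ∀ (x : X) (h : f x ⤳ y), st J x = Ideal.span {psi f x h a}

/-- the divisor descends at `y` -/
def Good (y : Y) : Prop := ∃ a : Y.presheaf.stalk y, a ∈ nonZeroDivisors _ ∧ IsGen f J y a

variable {f J}

theorem IsGen.spec {y : Y} {a : Y.presheaf.stalk y} (ha : IsGen f J y a) {y' : Y} (h : y' ⤳ y) :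
    IsGen f J y' ((Y.presheaf.stalkSpecializes h).hom a) := fun x hx => by
  rw [ha x (hx.trans h), psi_spec]

theorem IsGen.comap_eq [Flat f] {y : Y} {a : Y.presheaf.stalk y} (ha : IsGen f J y a) (x : X) (h : f x = y) :
    (st J x).comap (psi f x (specializes_of_eq h)) = Ideal.span {a} := by
  rw [ha x (specializes_of_eq h), ← Set.image_singleton, ← Ideal.map_span, comap_map_psi f x h]

variable [Flat f]

/-- the contraction at `x` localises to the given generator -/
theorem map_comap_eq (hJ : BlowUp.IsEffCartierIdeal J) {x : X} {y : Y} (hxy : f x = y) {y' : Y}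
    (hy' : y' ⤳ y) {a' : Y.presheaf.stalk y'} (ha' : IsGen f J y' a') :
    ((st J x).comap (psi f x (specializes_of_eq hxy))).map (Y.presheaf.stalkSpecializes hy').hom =
      Ideal.span {a'} := by
  refine le_antisymm (Ideal.map_le_iff_le_comap.2 fun c hc => ?_) ?_
  · obtain ⟨x', hx', rfl⟩ := exists_lift f x (y' := y') (hxy ▸ hy')
    rw [Ideal.mem_comap, ← ha'.comap_eq x' rfl, Ideal.mem_comap, psi_spec, ← spec_psi f hx' (specializes_of_eq hxy),
      st_specializes J hx']
    exact Ideal.mem_map_of_mem _ hc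
  · obtain ⟨t, ht, htJ⟩ := exists_gen J hJ x
    letI := (Y.presheaf.stalkSpecializes hy').hom.toAlgebra
    haveI : IsLocalization.AtPrime (Y.presheaf.stalk y') (primeOf hy').asIdeal :=
      H23.StalkPrimes.isLocalization_primeOf hy'
    obtain ⟨c, s, hcs⟩ := IsLocalization.exists_mk'_eq (primeOf hy').asIdeal.primeCompl a'
    set ψ := psi f x (specializes_of_eq hxy) with hψ
    have key : ∃ r ∉ (primeOf hy').asIdeal, r * c ∈ (st J x).comap ψ := by
      by_contra hno
      push Not at hno
      obtain ⟨P, hP, hle, hdisj⟩ := Ideal.exists_le_prime_disjoint (Submodule.colon (st J x) {ψ c})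
        ((primeOf hy').asIdeal.primeCompl.map ψ) (by
          rw [Set.disjoint_left]
          rintro z hz ⟨r, hr, rfl⟩
          exact hno r hr (by simpa [map_mul] using Submodule.mem_colon_singleton.1 hz))
      haveI := hP
      obtain ⟨x', hx', hPx⟩ := H23.StalkPrimes.exists_point P
      have hfx : f x' ⤳ y := (hx'.map f.continuous).trans (specializes_of_eq hxy)
      have hcomap : (primeOf hx').asIdeal.comap ψ = (primeOf hfx).asIdeal := by
        subst hxy
        rw [hψ, psi_refl, H23.StalkPrimes.comap_primeOf f hx']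
      have hle' : (primeOf hfx).asIdeal ≤ (primeOf hy').asIdeal := fun r hr => by
        by_contra hr'
        rw [← hcomap, hPx] at hr
        exact Set.disjoint_left.1 hdisj hr ⟨r, hr', rfl⟩
      have hfy' : f x' ⤳ y' := (H23.StalkPrimes.primeOf_le_iff hy' hfx).1 hle'
      have h1 : (X.presheaf.stalkSpecializes hx').hom (ψ c) ∈ st J x' := by
        rw [hψ, spec_psi, ← psi_spec f x' hfy' hy', ha' x' hfy', ← Set.image_singleton, ← Ideal.map_span]
        refine Ideal.mem_map_of_mem _ (Ideal.mem_span_singleton'.2 ⟨algebraMap _ _ (s : Y.presheaf.stalk y), ?_⟩)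
        rw [← hcs, mul_comm, IsLocalization.mk'_spec]
        rfl
      rw [st_specializes J hx'] at h1
      letI := (X.presheaf.stalkSpecializes hx').hom.toAlgebra
      haveI : IsLocalization.AtPrime (X.presheaf.stalk x') (primeOf hx').asIdeal :=
        H23.StalkPrimes.isLocalization_primeOf hx'
      change algebraMap _ (X.presheaf.stalk x') (ψ c) ∈ (st J x).map (algebraMap _ _) at h1
      rw [IsLocalization.algebraMap_mem_map_algebraMap_iff (primeOf hx').asIdeal.primeCompl] at h1
      obtain ⟨z, hz, hzc⟩ := h1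
      exact hz (hPx ▸ hle (Submodule.mem_colon_singleton.2 hzc))
    obtain ⟨r, hr, hrc⟩ := key
    rw [Ideal.span_singleton_le_iff_mem]
    have h2 : algebraMap (Y.presheaf.stalk y) (Y.presheaf.stalk y') (r * c) ∈
        ((st J x).comap ψ).map (algebraMap (Y.presheaf.stalk y) (Y.presheaf.stalk y')) := Ideal.mem_map_of_mem _ hrc
    have hu : IsUnit (algebraMap (Y.presheaf.stalk y) (Y.presheaf.stalk y') r * algebraMap _ _ (s : Y.presheaf.stalk y)) :=
      (IsLocalization.map_units _ (⟨r, hr⟩ : (primeOf hy').asIdeal.primeCompl)).mul (IsLocalization.map_units _ s)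
    show a' ∈ ((st J x).comap ψ).map (algebraMap (Y.presheaf.stalk y) (Y.presheaf.stalk y'))
    rw [← Ideal.mul_unit_mem_iff_mem _ hu]
    convert h2 using 1
    rw [map_mul, ← hcs, mul_left_comm, IsLocalization.mk'_spec]

variable [Surjective f] [IsLocallyNoetherian Y]

/-- the step in depth at least two -/
theorem good_of_punctured (hJ : BlowUp.IsEffCartierIdeal J) (y : Y)
    (hd : (2 : ℕ∞) ≤ LocCoh.depth (Y.presheaf.stalk y) (Y.presheaf.stalk y))
    (hgood : ∀ y', y' ⤳ y → y' ≠ y → Good f J y') : Good f J y := by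
  obtain ⟨x₀, hx₀⟩ := f.surjective y
  have main : ∀ (x : X) (hxy : f x = y), ∃ a : Y.presheaf.stalk y, a ∈ nonZeroDivisors _ ∧
      (st J x).comap (psi f x (specializes_of_eq hxy)) = Ideal.span {a} ∧
      st J x = Ideal.span {psi f x (specializes_of_eq hxy) a} := by
    intro x hxy
    obtain ⟨h1, h2⟩ := flat_psi f x hxy
    algebraize [psi f x (specializes_of_eq hxy)]
    haveI : IsLocalHom (algebraMap (Y.presheaf.stalk y) (X.presheaf.stalk x)) := h2
    obtain ⟨t, ht, htJ⟩ := exists_gen J hJ x
    obtain ⟨a, ha, ha1, ha2⟩ := exists_generator (A := Y.presheaf.stalk y) hd ht (fun P _ hP => by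
      obtain ⟨x', hx', hPx⟩ := H23.StalkPrimes.exists_point P
      have hy' : f x' ⤳ y := (hx'.map f.continuous).trans (specializes_of_eq hxy)
      have hne : f x' ≠ y := fun e => hP (by
        rw [← hPx]
        refine Eq.trans ?_ (show (primeOf hy').asIdeal = IsLocalRing.maximalIdeal _ from ?_)
        · subst hxy
          show (primeOf hx').asIdeal.comap (psi f x _) = _
          rw [psi_refl, H23.StalkPrimes.comap_primeOf f hx']
        · refine Ideal.ext fun r => ?_
          rw [CDiv6.mem_primeOf, IsLocalRing.mem_maximalIdeal, mem_nonunits_iff]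
          clear hP hPx
          subst e
          simp [TopCat.Presheaf.stalkSpecializes_refl])
      obtain ⟨a', -, ha'⟩ := hgood _ hy' hne
      have h3 : (X.presheaf.stalkSpecializes hx').hom t ∈
          (((Ideal.span {t}).comap (algebraMap (Y.presheaf.stalk y) (X.presheaf.stalk x))).map
            (algebraMap (Y.presheaf.stalk y) (X.presheaf.stalk x))).map (X.presheaf.stalkSpecializes hx').hom := by
        have h4 := map_comap_eq hJ hxy hy' ha'
        have h5 : st J x' = (((st J x).comap (psi f x (specializes_of_eq hxy))).map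
            (Y.presheaf.stalkSpecializes hy').hom).map (f.stalkMap x').hom := by
          rw [h4, ha' x' specializes_rfl, psi_refl, Ideal.map_span, Set.image_singleton]
        rw [Ideal.map_map, RingHom.algebraMap_toAlgebra, ← htJ,
          show (X.presheaf.stalkSpecializes hx').hom.comp (psi f x (specializes_of_eq hxy)) =
            (f.stalkMap x').hom.comp (Y.presheaf.stalkSpecializes hy').hom from RingHom.ext fun c => spec_psi f hx' _ c,
          ← Ideal.map_map, ← h5, st_specializes J hx']
        exact Ideal.mem_map_of_mem _ (htJ ▸ Ideal.mem_span_singleton_self t)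
      letI := (X.presheaf.stalkSpecializes hx').hom.toAlgebra
      haveI : IsLocalization.AtPrime (X.presheaf.stalk x') (primeOf hx').asIdeal :=
        H23.StalkPrimes.isLocalization_primeOf hx'
      change algebraMap _ (X.presheaf.stalk x') t ∈ Ideal.map (algebraMap _ _) _ at h3
      rw [IsLocalization.algebraMap_mem_map_algebraMap_iff (primeOf hx').asIdeal.primeCompl] at h3
      obtain ⟨s, hs, hst⟩ := h3
      exact ⟨s, hPx ▸ hs, hst⟩)
    refine ⟨a, ha, ?_, ?_⟩
    · rw [htJ]; exact ha1
    · rw [htJ]; exact ha2.symm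
  obtain ⟨a, ha, ha1, -⟩ := main x₀ hx₀
  refine ⟨a, ha, fun x hx => ?_⟩
  by_cases hxy : f x = y
  · obtain ⟨b, hb, hb1, hb2⟩ := main x hxy
    have hsame : ∀ (x₁ x₂ : X) (h₁ : f x₁ = y) (h₂ : f x₂ = y),
        (st J x₁).comap (psi f x₁ (specializes_of_eq h₁)) ≤ (st J x₂).comap (psi f x₂ (specializes_of_eq h₂)) := by
      intro x₁ x₂ h₁ h₂
      obtain ⟨t₁, -, htJ₁⟩ := exists_gen J hJ x₁
      obtain ⟨t₂, ht₂, htJ₂⟩ := exists_gen J hJ x₂
      letI := (psi f x₁ (specializes_of_eq h₁)).toAlgebra
      letI := (psi f x₂ (specializes_of_eq h₂)).toAlgebra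
      haveI : Module.Flat (Y.presheaf.stalk y) (X.presheaf.stalk x₂) := (flat_psi f x₂ h₂).1
      rw [htJ₁, htJ₂]
      refine comap_le_comap (A := Y.presheaf.stalk y) (B := X.presheaf.stalk x₁) (B' := X.presheaf.stalk x₂)
        hd ht₂ t₁ fun p _ hp c hc => ?_
      obtain ⟨y', hy', hpy⟩ := H23.StalkPrimes.exists_point p
      have hne : y' ≠ y := fun e => hp (by
        rw [← hpy]
        refine Ideal.ext fun r => ?_
        rw [CDiv6.mem_primeOf, IsLocalRing.mem_maximalIdeal, mem_nonunits_iff]
        clear hpy hp hc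
        subst e
        simp [TopCat.Presheaf.stalkSpecializes_refl])
      obtain ⟨a', -, ha'⟩ := hgood y' hy' hne
      have h3 : (Y.presheaf.stalkSpecializes hy').hom c ∈
          ((Ideal.span {t₂}).comap (algebraMap (Y.presheaf.stalk y) (X.presheaf.stalk x₂))).map
            (Y.presheaf.stalkSpecializes hy').hom := by
        rw [RingHom.algebraMap_toAlgebra, ← htJ₂, map_comap_eq hJ h₂ hy' ha', ← map_comap_eq hJ h₁ hy' ha', htJ₁]
        exact Ideal.mem_map_of_mem _ hc
      letI := (Y.presheaf.stalkSpecializes hy').hom.toAlgebra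
      haveI : IsLocalization.AtPrime (Y.presheaf.stalk y') (primeOf hy').asIdeal :=
        H23.StalkPrimes.isLocalization_primeOf hy'
      change algebraMap _ (Y.presheaf.stalk y') c ∈ Ideal.map (algebraMap _ _) _ at h3
      rw [IsLocalization.algebraMap_mem_map_algebraMap_iff (primeOf hy').asIdeal.primeCompl] at h3
      obtain ⟨s, hs, hsc⟩ := h3
      exact ⟨s, hpy ▸ hs, hsc⟩
    have hab : Ideal.span {a} = Ideal.span {b} := by
      rw [← ha1, ← hb1]
      exact le_antisymm (hsame _ _ hx₀ hxy) (hsame _ _ hxy hx₀)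
    rw [hb2]
    show Ideal.span {psi f x hx b} = Ideal.span {psi f x hx a}
    rw [← Set.image_singleton, ← Ideal.map_span, ← hab, Ideal.map_span, Set.image_singleton]
  · obtain ⟨a', -, ha'⟩ := hgood _ hx hxy
    have h4 := map_comap_eq hJ hx₀ hx ha'
    rw [ha1, Ideal.map_span, Set.image_singleton] at h4
    rw [ha' x specializes_rfl, psi_refl, ← Set.image_singleton, ← Ideal.map_span, ← h4, Ideal.map_span,
      Set.image_singleton]
    rfl

/-- descent at every point from depth at most one -/
theorem good_all (hJ : BlowUp.IsEffCartierIdeal J)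
    (h1 : ∀ y : Y, LocCoh.depth (Y.presheaf.stalk y) (Y.presheaf.stalk y) ≤ 1 → Good f J y) (y : Y) :
    Good f J y := by
  have hfin : ∀ x : Y, Order.coheight x < ⊤ := fun x => by
    have hlt := ringKrullDim_lt_top (R := Y.presheaf.stalk x)
    rw [ringKrullDim_stalk_eq_coheight] at hlt
    by_contra h
    rw [not_lt, top_le_iff] at h
    rw [h] at hlt
    exact lt_irrefl _ hlt
  have key : ∀ (n : ℕ∞) (y : Y), Order.coheight y = n → Good f J y := by
    intro n
    induction n using WellFoundedLT.induction with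
    | ind n ih =>
      intro y hn
      by_cases hd : LocCoh.depth (Y.presheaf.stalk y) (Y.presheaf.stalk y) ≤ 1
      · exact h1 y hd
      refine good_of_punctured hJ y (Order.add_one_le_of_lt (not_le.1 hd)) fun y' hy' hne => ih _ ?_ y' rfl
      rw [← hn]
      exact Order.coheight_strictAnti ⟨Scheme.le_iff_specializes.2 hy',
        fun h => hne (hy'.antisymm (Scheme.le_iff_specializes.1 h)).eq⟩ (hfin y')
  exact key _ y rfl

omit [IsLocallyNoetherian Y] in
/-- glueing -/
theorem exists_descent (hf : QuasiCompact f ∨ IsOpenMap f) (hJ : BlowUp.IsEffCartierIdeal J)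
    (h : ∀ y, Good f J y) :
    ∃ I : Y.IdealSheafData, BlowUp.IsEffCartierIdeal I ∧ I.comap f = J := by
  classical
  choose a ha hgen using h
  let Q : ∀ y : Y, Ideal (Y.presheaf.stalk y) := fun y => Ideal.span {a y}
  have hQst : ∀ x : X, (Q (f x)).map (f.stalkMap x).hom = st J x := fun x => by
    rw [hgen (f x) x specializes_rfl, psi_refl, Ideal.map_span, Set.image_singleton]
  have hcm : ∀ (x : X) (K : Ideal (Y.presheaf.stalk (f x))), (K.map (f.stalkMap x).hom).comap (f.stalkMap x).hom = K :=
    fun x K => by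
      have := comap_map_psi f x rfl K
      rwa [psi_refl] at this
  have hquot : Topology.IsQuotientMap f := by
    rcases hf with hf | hf
    · haveI := hf; exact Flat.isQuotientMap_of_surjective f
    · exact hf.isQuotientMap f.continuous f.surjective
  have hQ : ∀ y : Y, ∃ U : Y.Opens, y ∈ U ∧ ∃ b : Γ(Y, U), ∀ z (hz : z ∈ U),
      Q z = Ideal.span {Y.presheaf.germ U z hz b} := by
    intro y
    obtain ⟨U, hyU, b, hb⟩ := Y.presheaf.germ_exist (a y)
    let F : Set Y := {z | ∃ hz : z ∈ U, Q z = Ideal.span {Y.presheaf.germ U z hz b}}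
    have hEF : f ⁻¹' F = {x | ∃ hx : f x ∈ U, st J x =
        Ideal.span {X.presheaf.germ (f ⁻¹ᵁ U) x hx (f.app U b)}} := by
      ext x
      constructor
      · rintro ⟨hz, he⟩
        refine ⟨hz, ?_⟩
        rw [← hQst x, he, Ideal.map_span, Set.image_singleton]
        congr 2
        exact Scheme.Hom.germ_stalkMap_apply f U x hz b
      · rintro ⟨hz, he⟩
        refine ⟨hz, ?_⟩
        rw [← hcm x (Q (f x)), hQst x, he, ← hcm x (Ideal.span {Y.presheaf.germ U (f x) hz b}),
          Ideal.map_span, Set.image_singleton]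
        congr 3
        exact (Scheme.Hom.germ_stalkMap_apply f U x hz b).symm
    have hFo : IsOpen F := by
      rw [← hquot.isOpen_preimage, hEF, isOpen_iff_forall_mem_open]
      rintro x ⟨hx, he⟩
      obtain ⟨V, hxV, g, -, hVg⟩ := hJ x
      have hst : ∀ z (hz : z ∈ V.1), st J z = Ideal.span {X.presheaf.germ V.1 z hz g} := fun z hz => by
        rw [st_eq J V hz, CDivEq.stk, hVg, Ideal.map_span, Set.image_singleton]
      rw [hst x hxV] at he
      obtain ⟨c, hc⟩ := Ideal.mem_span_singleton'.1 (he.le (Ideal.mem_span_singleton_self _))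
      obtain ⟨d, hd⟩ := Ideal.mem_span_singleton'.1 (he.ge (Ideal.mem_span_singleton_self _))
      obtain ⟨C, hxC, c', rfl⟩ := X.presheaf.germ_exist c
      obtain ⟨D, hxD, d', rfl⟩ := X.presheaf.germ_exist d
      let W₀ : X.Opens := (V.1 ⊓ f ⁻¹ᵁ U) ⊓ (C ⊓ D)
      have hxW₀ : x ∈ W₀ := ⟨⟨hxV, hx⟩, hxC, hxD⟩
      let r : ∀ {O : X.Opens}, W₀ ≤ O → Γ(X, O) → Γ(X, W₀) := fun h => (X.presheaf.map (homOfLE h).op).hom
      let g' := r (show W₀ ≤ V.1 from fun z hz => hz.1.1) g
      let b' := r (show W₀ ≤ f ⁻¹ᵁ U from fun z hz => hz.1.2) (f.app U b)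
      let c'' := r (show W₀ ≤ C from fun z hz => hz.2.1) c'
      let d'' := r (show W₀ ≤ D from fun z hz => hz.2.2) d'
      have hres : ∀ {O : X.Opens} (h : W₀ ≤ O) (z : X) (hz : z ∈ W₀) (s : Γ(X, O)),
          X.presheaf.germ W₀ z hz (r h s) = X.presheaf.germ O z (h hz) s :=
        fun h z hz s => X.presheaf.germ_res_apply (homOfLE h) z hz s
      obtain ⟨W₁, hxW₁, i₁, i₁', he₁⟩ := X.presheaf.germ_eq x hxW₀ hxW₀ (c'' * b') g' (by
        rw [map_mul, hres, hres, hres]; exact hc)
      obtain ⟨W₂, hxW₂, i₂, i₂', he₂⟩ := X.presheaf.germ_eq x hxW₀ hxW₀ (d'' * g') b' (by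
        rw [map_mul, hres, hres, hres]; exact hd)
      refine ⟨(W₁ ⊓ W₂ : X.Opens), fun z hz => ?_, (W₁ ⊓ W₂).2, ⟨hxW₁, hxW₂⟩⟩
      have hz0 : z ∈ W₀ := i₁.le hz.1
      refine ⟨hz0.1.2, ?_⟩
      rw [hst z hz0.1.1]
      have e1 := congrArg (X.presheaf.germ W₁ z hz.1) he₁
      have e2 := congrArg (X.presheaf.germ W₂ z hz.2) he₂
      rw [X.presheaf.germ_res_apply, X.presheaf.germ_res_apply, map_mul, hres, hres, hres] at e1 e2
      exact le_antisymm
        ((Ideal.span_singleton_le_iff_mem _).2 (Ideal.mem_span_singleton'.2 ⟨_, e1⟩))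
        ((Ideal.span_singleton_le_iff_mem _).2 (Ideal.mem_span_singleton'.2 ⟨_, e2⟩))
    refine ⟨U ⊓ ⟨F, hFo⟩, ⟨hyU, hyU, by rw [hb]⟩, Y.presheaf.map (homOfLE inf_le_left).op b, fun z hz => ?_⟩
    obtain ⟨hzU, hzF⟩ := hz.2
    rw [hzF]
    congr 2
    exact (Y.presheaf.germ_res_apply (homOfLE inf_le_left) z hz b).symm
  refine ⟨ofStalks Q hQ, isEffCartier_ofStalks Q hQ fun y g hg => ?_, ext_st fun x => ?_⟩
  · obtain ⟨w, hw⟩ := Ideal.mem_span_singleton'.1 (hg.le (Ideal.mem_span_singleton_self (a y)))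
    exact (mul_mem_nonZeroDivisors.1 (hw.symm ▸ ha y : w * g ∈ nonZeroDivisors _)).2
  · rw [st_comap, st_ofStalks, hQst]

end Groth.Agent.Div21Lib
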