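import Groth.Agent.Div21Lib.Descent

/-!
# Descent of a family of principal ideals over the generisations of a point
-/

set_option autoImplicit false
set_option linter.style.haveILetI false
set_option backward.isDefEq.respectTransparency false
set_option backward.isDefEq.respectTransparency.types false
universe u

open AlgebraicGeometry CategoryTheory CategoryTheory.Limits TopologicalSpace IsLocalRing
open Groth.Agent.CDiv6 (primeOf)

namespace Groth.Agent.Div21Lib

variable {X Y : Scheme.{u}} (f : X ⟶ Y) (Q : ∀ x : X, Ideal (X.presheaf.stalk x))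

/-- A compatible family of invertible ideals over the generisations of a point. -/
structure IsFam (y₀ : Y) : Prop where
  gen : ∀ x : X, f x ⤳ y₀ → ∃ g, g ∈ nonZeroDivisors (X.presheaf.stalk x) ∧ Q x = Ideal.span {g}
  spec : ∀ {x' x : X} (hx : x' ⤳ x), f x ⤳ y₀ → Q x' = (Q x).map (X.presheaf.stalkSpecializes hx).hom

/-- `a` generates the family at all generisations of `y` -/
def IsGenQ (y : Y) (a : Y.presheaf.stalk y) : Prop :=
  ∀ (x : X) (h : f x ⤳ y), Q x = Ideal.span {psi f x h a}

/-- the family descends at `y` -/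
def GoodQ (y : Y) : Prop := ∃ a : Y.presheaf.stalk y, a ∈ nonZeroDivisors _ ∧ IsGenQ f Q y a

variable {f Q} {y₀ : Y}

theorem IsGenQ.spec {y : Y} {a : Y.presheaf.stalk y} (ha : IsGenQ f Q y a) {y' : Y} (h : y' ⤳ y) :
    IsGenQ f Q y' ((Y.presheaf.stalkSpecializes h).hom a) := fun x hx => by
  rw [ha x (hx.trans h), psi_spec]

theorem IsGenQ.comap_eq [Flat f] {y : Y} {a : Y.presheaf.stalk y} (ha : IsGenQ f Q y a) (x : X) (h : f x = y) :
    (Q x).comap (psi f x (specializes_of_eq h)) = Ideal.span {a} := by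
  rw [ha x (specializes_of_eq h), ← Set.image_singleton, ← Ideal.map_span, comap_map_psi f x h]

variable [Flat f]

/-- the contraction at `x` localises to the given generator -/
theorem map_comap_eqQ (hJ : IsFam f Q y₀) {x : X} {y : Y} (hy : y ⤳ y₀) (hxy : f x = y) {y' : Y}
    (hy' : y' ⤳ y) {a' : Y.presheaf.stalk y'} (ha' : IsGenQ f Q y' a') :
    ((Q x).comap (psi f x (specializes_of_eq hxy))).map (Y.presheaf.stalkSpecializes hy').hom =
      Ideal.span {a'} := by
  refine le_antisymm (Ideal.map_le_iff_le_comap.2 fun c hc => ?_) ?_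
  · obtain ⟨x', hx', rfl⟩ := exists_lift f x (y' := y') (hxy ▸ hy')
    rw [Ideal.mem_comap, ← ha'.comap_eq x' rfl, Ideal.mem_comap, psi_spec, ← spec_psi f hx' (specializes_of_eq hxy),
      hJ.spec hx' ((specializes_of_eq hxy).trans hy)]
    exact Ideal.mem_map_of_mem _ hc
  · obtain ⟨t, ht, htJ⟩ := hJ.gen x ((specializes_of_eq hxy).trans hy)
    letI := (Y.presheaf.stalkSpecializes hy').hom.toAlgebra
    haveI : IsLocalization.AtPrime (Y.presheaf.stalk y') (primeOf hy').asIdeal :=
      H23.StalkPrimes.isLocalization_primeOf hy'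
    obtain ⟨c, s, hcs⟩ := IsLocalization.exists_mk'_eq (primeOf hy').asIdeal.primeCompl a'
    set ψ := psi f x (specializes_of_eq hxy) with hψ
    have key : ∃ r ∉ (primeOf hy').asIdeal, r * c ∈ (Q x).comap ψ := by
      by_contra hno
      push Not at hno
      obtain ⟨P, hP, hle, hdisj⟩ := Ideal.exists_le_prime_disjoint (Submodule.colon (Q x) {ψ c})
        ((primeOf hy').asIdeal.primeCompl.map ψ) (by
          rw [Set.disjoint_left]
          rintro z hz ⟨r, hr, rfl⟩
          exact hno r hr (by simpa [map_mul] using Submodule.mem_colon_singleton.1 hz))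
      haveI := hP
      obtain ⟨x', hx', hPx⟩ := H23.StalkPrimes.exists_point P
      have hfx : f x' ⤳ y := (hx'.map f.continuous).trans (specializes_of_eq hxy)
      have hcomap : (primeOf hx').asIdeal.comap ψ = (primeOf hfx).asIdeal := by
        subst hxy
        rw [hψ, psi_refl, H23.StalkPrimes.comap_primeOf f hx']
      have hle' : (primeOf hfx).asIdeal ≤ (primeOf hy').asIdeal := fun r hr => by
        by_contra hr'
        rw [← hcomap, hPx] at hr
        exact Set.disjoint_left.1 hdisj hr ⟨r, hr', rfl⟩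
      have hfy' : f x' ⤳ y' := (H23.StalkPrimes.primeOf_le_iff hy' hfx).1 hle'
      have h1 : (X.presheaf.stalkSpecializes hx').hom (ψ c) ∈ Q x' := by
        rw [hψ, spec_psi, ← psi_spec f x' hfy' hy', ha' x' hfy', ← Set.image_singleton, ← Ideal.map_span]
        refine Ideal.mem_map_of_mem _ (Ideal.mem_span_singleton'.2 ⟨algebraMap _ _ (s : Y.presheaf.stalk y), ?_⟩)
        rw [← hcs, mul_comm, IsLocalization.mk'_spec]
        rfl
      rw [hJ.spec hx' ((specializes_of_eq hxy).trans hy)] at h1
      letI := (X.presheaf.stalkSpecializes hx').hom.toAlgebra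
      haveI : IsLocalization.AtPrime (X.presheaf.stalk x') (primeOf hx').asIdeal :=
        H23.StalkPrimes.isLocalization_primeOf hx'
      change algebraMap _ (X.presheaf.stalk x') (ψ c) ∈ (Q x).map (algebraMap _ _) at h1
      rw [IsLocalization.algebraMap_mem_map_algebraMap_iff (primeOf hx').asIdeal.primeCompl] at h1
      obtain ⟨z, hz, hzc⟩ := h1
      exact hz (hPx ▸ hle (Submodule.mem_colon_singleton.2 hzc))
    obtain ⟨r, hr, hrc⟩ := key
    rw [Ideal.span_singleton_le_iff_mem]
    have h2 : algebraMap (Y.presheaf.stalk y) (Y.presheaf.stalk y') (r * c) ∈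
        ((Q x).comap ψ).map (algebraMap (Y.presheaf.stalk y) (Y.presheaf.stalk y')) := Ideal.mem_map_of_mem _ hrc
    have hu : IsUnit (algebraMap (Y.presheaf.stalk y) (Y.presheaf.stalk y') r * algebraMap _ _ (s : Y.presheaf.stalk y)) :=
      (IsLocalization.map_units _ (⟨r, hr⟩ : (primeOf hy').asIdeal.primeCompl)).mul (IsLocalization.map_units _ s)
    show a' ∈ ((Q x).comap ψ).map (algebraMap (Y.presheaf.stalk y) (Y.presheaf.stalk y'))
    rw [← Ideal.mul_unit_mem_iff_mem _ hu]
    convert h2 using 1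
    rw [map_mul, ← hcs, mul_left_comm, IsLocalization.mk'_spec]

variable [Surjective f] [IsLocallyNoetherian Y]

/-- the step in depth at least two -/
theorem good_of_puncturedQ (hJ : IsFam f Q y₀) (y : Y) (hy₀ : y ⤳ y₀)
    (hd : (2 : ℕ∞) ≤ LocCoh.depth (Y.presheaf.stalk y) (Y.presheaf.stalk y))
    (hgood : ∀ y', y' ⤳ y → y' ≠ y → GoodQ f Q y') : GoodQ f Q y := by
  obtain ⟨x₀, hx₀⟩ := f.surjective y
  have main : ∀ (x : X) (hxy : f x = y), ∃ a : Y.presheaf.stalk y, a ∈ nonZeroDivisors _ ∧
      (Q x).comap (psi f x (specializes_of_eq hxy)) = Ideal.span {a} ∧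
      Q x = Ideal.span {psi f x (specializes_of_eq hxy) a} := by
    intro x hxy
    obtain ⟨h1, h2⟩ := flat_psi f x hxy
    algebraize [psi f x (specializes_of_eq hxy)]
    haveI : IsLocalHom (algebraMap (Y.presheaf.stalk y) (X.presheaf.stalk x)) := h2
    obtain ⟨t, ht, htJ⟩ := hJ.gen x ((specializes_of_eq hxy).trans hy₀)
    obtain ⟨a, ha, ha1, ha2⟩ := exists_generator (A := Y.presheaf.stalk y) hd ht (fun P _ hP => by
      obtain ⟨x', hx', hPx⟩ := H23.StalkPrimes.exists_point P
      have hy' : f x' ⤳ y := (hx'.map f.continuous).trans (specializes_of_eq hxy)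
      have hne : f x' ≠ y := fun e => hP (by
        rw [← hPx]
        refine Eq.trans ?_ (show (primeOf hy').asIdeal = IsLocalRing.maximalIdeal _ from ?_)
        · subst hxy
          show (primeOf hx').asIdeal.comap (psi f x _) = _
          rw [psi_refl, H23.StalkPrimes.comap_primeOf f hx']
        · refine Ideal.ext fun r => ?_
          rw [CDiv6.mem_primeOf, IsLocalRing.mem_maximalIdeal, mem_nonunits_iff]
          clear hP hPx
          subst e
          simp [TopCat.Presheaf.stalkSpecializes_refl])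
      obtain ⟨a', -, ha'⟩ := hgood _ hy' hne
      have h3 : (X.presheaf.stalkSpecializes hx').hom t ∈
          (((Ideal.span {t}).comap (algebraMap (Y.presheaf.stalk y) (X.presheaf.stalk x))).map
            (algebraMap (Y.presheaf.stalk y) (X.presheaf.stalk x))).map (X.presheaf.stalkSpecializes hx').hom := by
        have h4 := map_comap_eqQ hJ hy₀ hxy hy' ha'
        have h5 : Q x' = (((Q x).comap (psi f x (specializes_of_eq hxy))).map
            (Y.presheaf.stalkSpecializes hy').hom).map (f.stalkMap x').hom := by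
          rw [h4, ha' x' specializes_rfl, psi_refl, Ideal.map_span, Set.image_singleton]
        rw [Ideal.map_map, RingHom.algebraMap_toAlgebra, ← htJ,
          show (X.presheaf.stalkSpecializes hx').hom.comp (psi f x (specializes_of_eq hxy)) =
            (f.stalkMap x').hom.comp (Y.presheaf.stalkSpecializes hy').hom from RingHom.ext fun c => spec_psi f hx' _ c,
          ← Ideal.map_map, ← h5, hJ.spec hx' ((specializes_of_eq hxy).trans hy₀)]
        exact Ideal.mem_map_of_mem _ (htJ ▸ Ideal.mem_span_singleton_self t)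
      letI := (X.presheaf.stalkSpecializes hx').hom.toAlgebra
      haveI : IsLocalization.AtPrime (X.presheaf.stalk x') (primeOf hx').asIdeal :=
        H23.StalkPrimes.isLocalization_primeOf hx'
      change algebraMap _ (X.presheaf.stalk x') t ∈ Ideal.map (algebraMap _ _) _ at h3
      rw [IsLocalization.algebraMap_mem_map_algebraMap_iff (primeOf hx').asIdeal.primeCompl] at h3
      obtain ⟨s, hs, hst⟩ := h3
      exact ⟨s, hPx ▸ hs, hst⟩)
    refine ⟨a, ha, ?_, ?_⟩
    · rw [htJ]; exact ha1
    · rw [htJ]; exact ha2.symm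
  obtain ⟨a, ha, ha1, -⟩ := main x₀ hx₀
  refine ⟨a, ha, fun x hx => ?_⟩
  by_cases hxy : f x = y
  · obtain ⟨b, hb, hb1, hb2⟩ := main x hxy
    have hsame : ∀ (x₁ x₂ : X) (h₁ : f x₁ = y) (h₂ : f x₂ = y),
        (Q x₁).comap (psi f x₁ (specializes_of_eq h₁)) ≤ (Q x₂).comap (psi f x₂ (specializes_of_eq h₂)) := by
      intro x₁ x₂ h₁ h₂
      obtain ⟨t₁, -, htJ₁⟩ := hJ.gen x₁ ((specializes_of_eq h₁).trans hy₀)
      obtain ⟨t₂, ht₂, htJ₂⟩ := hJ.gen x₂ ((specializes_of_eq h₂).trans hy₀)
      letI := (psi f x₁ (specializes_of_eq h₁)).toAlgebra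
      letI := (psi f x₂ (specializes_of_eq h₂)).toAlgebra
      haveI : Module.Flat (Y.presheaf.stalk y) (X.presheaf.stalk x₂) := (flat_psi f x₂ h₂).1
      rw [htJ₁, htJ₂]
      refine comap_le_comap (A := Y.presheaf.stalk y) (B := X.presheaf.stalk x₁) (B' := X.presheaf.stalk x₂)
        hd ht₂ t₁ fun p _ hp c hc => ?_
      obtain ⟨y', hy', hpy⟩ := H23.StalkPrimes.exists_point p
      have hne : y' ≠ y := fun e => hp (by
        rw [← hpy]
        refine Ideal.ext fun r => ?_
        rw [CDiv6.mem_primeOf, IsLocalRing.mem_maximalIdeal, mem_nonunits_iff]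
        clear hpy hp hc
        subst e
        simp [TopCat.Presheaf.stalkSpecializes_refl])
      obtain ⟨a', -, ha'⟩ := hgood y' hy' hne
      have h3 : (Y.presheaf.stalkSpecializes hy').hom c ∈
          ((Ideal.span {t₂}).comap (algebraMap (Y.presheaf.stalk y) (X.presheaf.stalk x₂))).map
            (Y.presheaf.stalkSpecializes hy').hom := by
        rw [RingHom.algebraMap_toAlgebra, ← htJ₂, map_comap_eqQ hJ hy₀ h₂ hy' ha', ← map_comap_eqQ hJ hy₀ h₁ hy' ha', htJ₁]
        exact Ideal.mem_map_of_mem _ hc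
      letI := (Y.presheaf.stalkSpecializes hy').hom.toAlgebra
      haveI : IsLocalization.AtPrime (Y.presheaf.stalk y') (primeOf hy').asIdeal :=
        H23.StalkPrimes.isLocalization_primeOf hy'
      change algebraMap _ (Y.presheaf.stalk y') c ∈ Ideal.map (algebraMap _ _) _ at h3
      rw [IsLocalization.algebraMap_mem_map_algebraMap_iff (primeOf hy').asIdeal.primeCompl] at h3
      obtain ⟨s, hs, hsc⟩ := h3
      exact ⟨s, hpy ▸ hs, hsc⟩
    have hab : Ideal.span {a} = Ideal.span {b} := by
      rw [← ha1, ← hb1]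
      exact le_antisymm (hsame _ _ hx₀ hxy) (hsame _ _ hxy hx₀)
    rw [hb2]
    show Ideal.span {psi f x hx b} = Ideal.span {psi f x hx a}
    rw [← Set.image_singleton, ← Ideal.map_span, ← hab, Ideal.map_span, Set.image_singleton]
  · obtain ⟨a', -, ha'⟩ := hgood _ hx hxy
    have h4 := map_comap_eqQ hJ hy₀ hx₀ hx ha'
    rw [ha1, Ideal.map_span, Set.image_singleton] at h4
    rw [ha' x specializes_rfl, psi_refl, ← Set.image_singleton, ← Ideal.map_span, ← h4, Ideal.map_span,
      Set.image_singleton]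
    rfl

/-- descent at every point from depth at most one -/
theorem good_allQ (hJ : IsFam f Q y₀)
    (h1 : ∀ y : Y, y ⤳ y₀ → LocCoh.depth (Y.presheaf.stalk y) (Y.presheaf.stalk y) ≤ 1 → GoodQ f Q y) (y : Y) (hy₀ : y ⤳ y₀) :
    GoodQ f Q y := by
  have hfin : ∀ x : Y, Order.coheight x < ⊤ := fun x => by
    have hlt := ringKrullDim_lt_top (R := Y.presheaf.stalk x)
    rw [ringKrullDim_stalk_eq_coheight] at hlt
    by_contra h
    rw [not_lt, top_le_iff] at h
    rw [h] at hlt
    exact lt_irrefl _ hlt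
  have key : ∀ (n : ℕ∞) (y : Y), Order.coheight y = n → y ⤳ y₀ → GoodQ f Q y := by
    intro n
    induction n using WellFoundedLT.induction with
    | ind n ih =>
      intro y hn hy₀
      by_cases hd : LocCoh.depth (Y.presheaf.stalk y) (Y.presheaf.stalk y) ≤ 1
      · exact h1 y hy₀ hd
      refine good_of_puncturedQ hJ y hy₀ (Order.add_one_le_of_lt (not_le.1 hd)) fun y' hy' hne => ih _ ?_ y' rfl (hy'.trans hy₀)
      rw [← hn]
      exact Order.coheight_strictAnti ⟨Scheme.le_iff_specializes.2 hy',
        fun h => hne (hy'.antisymm (Scheme.le_iff_specializes.1 h)).eq⟩ (hfin y')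
  exact key _ y rfl hy₀


end Groth.Agent.Div21Lib
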