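import Groth.Agent.Div21Lib.Normal

/-!
# Criteria over a normal base
-/

set_option autoImplicit false
set_option linter.style.haveILetI false
set_option backward.isDefEq.respectTransparency false
set_option backward.isDefEq.respectTransparency.types false
universe u

open AlgebraicGeometry CategoryTheory CategoryTheory.Limits TopologicalSpace IsLocalRing

namespace Groth.Agent.Div21Lib

variable {X Y : Scheme.{u}}

theorem comap_fromSpecStalk_eq_iff (J : X.IdealSheafData) (x : X) (v : X.presheaf.stalk x) :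
    (J.comap (X.fromSpecStalk x)).ideal ⟨⊤, isAffineOpen_top _⟩ = Ideal.span {(Scheme.ΓSpecIso (X.presheaf.stalk x)).inv v} ↔
      st J x = Ideal.span {v} := by
  rw [ideal_comap_fromSpecStalk]
  refine ⟨fun h => map_inv_injective _ (h.trans ?_), fun h => ?_⟩
  · rw [Ideal.map_span, Set.image_singleton]
  · rw [h, Ideal.map_span, Set.image_singleton]

theorem isDVR_stalk [IsLocallyNoetherian Y] (hY : Pi1.IsNormalScheme Y) {y : Y}
    (h : ringKrullDim (Y.presheaf.stalk y) = 1) :
    ∃ _ : IsDomain (Y.presheaf.stalk y), IsDiscreteValuationRing (Y.presheaf.stalk y) := by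
  haveI := (hY y).1
  haveI := (hY y).2
  exact ⟨(hY y).1, CDiv6.isDVR_of_dim_eq_one _ h⟩

theorem st_of_descent (f : X ⟶ Y) (I : Y.IdealSheafData) {y : Y} {a : Y.presheaf.stalk y}
    (ha : st I y = Ideal.span {a}) (x : X) (hx : f x = y) :
    st (I.comap f) x = Ideal.span {psi f x (specializes_of_eq hx) a} := by
  subst hx
  rw [st_comap, ha, Ideal.map_span, Set.image_singleton, psi_refl]

variable (f : X ⟶ Y) [IsLocallyNoetherian Y]

theorem comap_fiberι_of_descent (hY : Pi1.IsNormalScheme Y) (I : Y.IdealSheafData) (hI : BlowUp.IsEffCartierIdeal I)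
    (η : Y) (hη : ∀ z, z ⤳ η → z = η) : (I.comap f).comap (f.fiberι η) = ⊤ := by
  haveI := (hY η).1
  rw [comap_fiberι_eq_top_iff]
  intro x hx
  obtain ⟨a, ha, hIa⟩ := exists_gen I hI η
  rw [st_of_descent f I hIa x hx, Ideal.span_singleton_eq_top]
  refine IsUnit.map _ ?_
  by_contra hu
  have h1 : a ∈ maximalIdeal (Y.presheaf.stalk η) := hu
  rw [maximalIdeal_eq_bot_of_maximal hη] at h1
  exact nonZeroDivisors.ne_zero ha ((Submodule.mem_bot _).1 h1)

/-- every nonzerodivisor is a power of a generator of the maximal ideal, up to a unit -/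
theorem exists_span_eq_pow {B : Type u} [CommRing B] [IsLocalRing B] [IsNoetherianRing B] {T g : B}
    (hm : maximalIdeal B = Ideal.span {T}) (hg : g ∈ nonZeroDivisors B) :
    ∃ n : ℕ, Ideal.span {g} = Ideal.span {T ^ n} := by
  by_contra hno
  push Not at hno
  have key : ∀ n, g ∈ maximalIdeal B ^ n := by
    intro n
    induction n with
    | zero => simp
    | succ n ih =>
      rw [hm, Ideal.span_singleton_pow, Ideal.mem_span_singleton'] at ih ⊢
      obtain ⟨v, hv⟩ := ih
      by_cases hu : IsUnit v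
      · exact absurd (by rw [← hv, mul_comm, Ideal.span_singleton_mul_right_unit hu]) (hno n)
      · obtain ⟨w, hw⟩ := Ideal.mem_span_singleton'.1 (show v ∈ Ideal.span {T} from hm ▸ hu)
        exact ⟨w, by rw [← hv, ← hw, pow_succ]; ring⟩
  have h0 : g ∈ ⨅ n, maximalIdeal B ^ n := by simpa [Ideal.mem_iInf] using key
  rw [Ideal.iInf_pow_eq_bot_of_isLocalRing _ (maximalIdeal.isMaximal B).ne_top] at h0
  exact nonZeroDivisors.ne_zero hg ((Submodule.mem_bot _).1 h0)

theorem eq_of_isAssociated_of_isIntegral {F : Scheme.{u}} [IsIntegral F] {z z' : F}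
    (hz : IsAssociatedPrime (maximalIdeal (F.presheaf.stalk z)) (F.presheaf.stalk z)) (h : z' ⤳ z) : z' = z := by
  obtain ⟨-, v, hv⟩ := hz
  have hv0 : v ≠ 0 := fun h0 => (maximalIdeal.isMaximal (F.presheaf.stalk z)).ne_top (by
    rw [hv, h0, Ideal.eq_top_iff_one]; exact Ideal.le_radical (Submodule.mem_colon_singleton.2 (by simp)))
  refine maximal_of_maximalIdeal_eq_bot (le_antisymm (le_of_eq_of_le hv ?_) bot_le) z' h
  refine Ideal.IsPrime.radical_le_iff inferInstance |>.2 fun r hr => ?_
  have h1 : r * v = 0 := by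
    simpa [Submodule.mem_colon_singleton] using hr
  exact (Submodule.mem_bot _).2 ((mul_eq_zero.1 h1).resolve_right hv0)

variable [IsLocallyNoetherian X] [Flat f]

/-- a power of the uniformiser at the generic point of an integral fibre -/
theorem exists_pow_of_integral_fibre (J : X.IdealSheafData) (hJ : BlowUp.IsEffCartierIdeal J) {y : Y}
    [IsIntegral (f.fiber y)] {t : Y.presheaf.stalk y} (hm : maximalIdeal (Y.presheaf.stalk y) = Ideal.span {t}) :
    ∃ n : ℕ, ∀ x (hx : f x = y), (∀ z, f z = y → z ⤳ x → z = x) →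
      st J x = Ideal.span {psi f x (specializes_of_eq hx) t ^ n} := by
  let w := genericPoint (f.fiber y)
  let ξ := f.fiberι y w
  have hξ : f ξ = y := FlatDvr.fiberι_apply_eq f w
  have hmz : maximalIdeal (Y.presheaf.stalk (f ξ)) =
      Ideal.span {(Y.presheaf.stalkSpecializes (specializes_of_eq hξ)).hom t} := by
    have : ∀ (y' : Y) (e : y' = y), maximalIdeal (Y.presheaf.stalk y') =
        Ideal.span {(Y.presheaf.stalkSpecializes (specializes_of_eq e)).hom t} := by
      rintro y' rfl
      rw [TopCat.Presheaf.stalkSpecializes_refl]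
      exact hm
    exact this _ hξ
  let q := ((f.fiberι y).stalkMap w).hom
  have hker : RingHom.ker q = Ideal.span {psi f ξ (specializes_of_eq hξ) t} := by
    rw [FlatDvr.ker_stalkMap_fiberι f w, hmz, Ideal.map_span, Set.image_singleton]
    rfl
  have hmax : (RingHom.ker q).IsMaximal := by
    letI : Field ((f.fiber y).presheaf.stalk w) := inferInstanceAs (Field (f.fiber y).functionField)
    exact RingHom.ker_isMaximal_of_surjective q ((f.fiberι y).stalkMap_surjective w)
  have hT : maximalIdeal (X.presheaf.stalk ξ) = Ideal.span {psi f ξ (specializes_of_eq hξ) t} := by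
    rw [← hker]; exact (IsLocalRing.eq_maximalIdeal hmax).symm
  obtain ⟨g, hg, hgJ⟩ := exists_gen J hJ ξ
  obtain ⟨n, hn⟩ := exists_span_eq_pow hT hg
  refine ⟨n, fun x hx hxm => ?_⟩
  obtain ⟨w', hw'⟩ : x ∈ Set.range (f.fiberι y) := by rw [Scheme.Hom.range_fiberι]; exact hx
  obtain rfl : ξ = x := hxm ξ hξ (hw' ▸ ((genericPoint_spec (f.fiber y)).specializes trivial).map (f.fiberι y).continuous)
  rw [hgJ, hn]

end Groth.Agent.Div21Lib
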