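import Groth.Agent.Div21Lib.DescentFam
import Groth.Agent.Div21Lib.NormalCrit

/-!
# Descent of a family of principal ideals over a normal base
-/

set_option autoImplicit false
set_option linter.style.haveILetI false
set_option backward.isDefEq.respectTransparency false
set_option backward.isDefEq.respectTransparency.types false
universe u

open AlgebraicGeometry CategoryTheory CategoryTheory.Limits TopologicalSpace IsLocalRing
open Groth.Agent.CDiv6 (primeOf)

namespace Groth.Agent.Div21Lib

variable {X Y : Scheme.{u}} {f : X ⟶ Y} {Q : ∀ x : X, Ideal (X.presheaf.stalk x)} {y₀ : Y} [Flat f]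
  [IsLocallyNoetherian X] [IsLocallyNoetherian Y]

/-- the discrete valuation case -/
theorem good_of_dvrQ {y : Y} [IsDomain (Y.presheaf.stalk y)] [IsDiscreteValuationRing (Y.presheaf.stalk y)]
    (hy₀ : y ⤳ y₀) (hJ : IsFam f Q y₀)
    (hmax : ∀ x : X, f x ⤳ y₀ → (∀ z, z ⤳ f x → z = f x) → Q x = ⊤)
    (hgenY : ∀ y' : Y, y' ⤳ y → y' ≠ y → ∀ z, z ⤳ y' → z = y')
    (hfib : ∀ z z' : ↥(f.fiber y),
      IsAssociatedPrime (maximalIdeal ((f.fiber y).presheaf.stalk z)) ((f.fiber y).presheaf.stalk z) →
      IsAssociatedPrime (maximalIdeal ((f.fiber y).presheaf.stalk z')) ((f.fiber y).presheaf.stalk z') →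
      z' ⤳ z → z' = z)
    {t : Y.presheaf.stalk y} (hm : maximalIdeal (Y.presheaf.stalk y) = Ideal.span {t}) (n : ℕ)
    (hn : ∀ x (hx : f x = y), (∀ z, f z = y → z ⤳ x → z = x) →
      Q x = Ideal.span {psi f x (specializes_of_eq hx) t ^ n}) :
    GoodQ f Q y := by
  have ht0 : t ≠ 0 := fun h => IsDiscreteValuationRing.not_isField (Y.presheaf.stalk y)
    (IsLocalRing.isField_iff_maximalIdeal_eq.2 (by rw [hm, h, Ideal.span_singleton_eq_bot]))
  refine ⟨t ^ n, pow_mem (mem_nonZeroDivisors_of_ne_zero ht0) n, fun x hx => ?_⟩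
  have hgen : ∀ (x' : X) (hx' : f x' ⤳ y), f x' ≠ y →
      Q x' = ⊤ ∧ IsUnit (psi f x' hx' t) := by
    intro x' hx' hne
    refine ⟨hmax x' (hx'.trans hy₀) (hgenY _ hx' hne), ?_⟩
    refine IsUnit.map (f.stalkMap x').hom ?_
    by_contra hu
    refine hne (H23.StalkPrimes.primeOf_inj hx' specializes_rfl ?_)
    have h0 : (primeOf (specializes_rfl : y ⤳ y)).asIdeal = maximalIdeal _ := by
      refine Ideal.ext fun r => ?_
      rw [CDiv6.mem_primeOf, IsLocalRing.mem_maximalIdeal, mem_nonunits_iff]
      simp [TopCat.Presheaf.stalkSpecializes_refl]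
    rw [h0]
    refine le_antisymm (IsLocalRing.le_maximalIdeal (primeOf hx').2.ne_top) ?_
    rw [hm, Ideal.span_singleton_le_iff_mem, CDiv6.mem_primeOf]
    exact hu
  by_cases hxy : f x = y
  swap
  · obtain ⟨h1, h2⟩ := hgen x hx hxy
    rw [h1, Eq.comm, Ideal.span_singleton_eq_top, map_pow]
    exact h2.pow n
  obtain ⟨g, hg, hgJ⟩ := hJ.gen x (hx.trans hy₀)
  set T := psi f x hx t with hT
  have hTreg : T ∈ nonZeroDivisors (X.presheaf.stalk x) := by
    obtain ⟨h1, -⟩ := flat_psi f x hxy
    letI := (psi f x (specializes_of_eq hxy)).toAlgebra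
    haveI : Module.Flat (Y.presheaf.stalk y) (X.presheaf.stalk x) := h1
    have hreg : IsSMulRegular (Y.presheaf.stalk y) t := fun a b h => mul_left_cancel₀ ht0 h
    have h2 : IsSMulRegular (X.presheaf.stalk x) (algebraMap (Y.presheaf.stalk y) (X.presheaf.stalk x) t) := hreg.of_flat
    rw [mem_nonZeroDivisors_iff_right]
    intro b hb
    exact h2 (show T * b = T * 0 by rw [mul_zero, mul_comm]; exact hb)
  -- associated primes of the quotient are minimal
  have hass : ∀ P ∈ associatedPrimes (X.presheaf.stalk x) (X.presheaf.stalk x ⧸ Ideal.span {T}),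
      P ∈ (Ideal.span {T}).minimalPrimes := by
    intro P hP
    have hTP : Ideal.span {T} ≤ P := by
      obtain ⟨-, v, hv⟩ := Alg6.mem_ass_iff.1 hP
      refine (Ideal.span_singleton_le_iff_mem _).2 ((hv T).2 ?_)
      rw [Algebra.smul_def, Ideal.Quotient.algebraMap_eq,
        Ideal.Quotient.eq_zero_iff_mem.2 (Ideal.mem_span_singleton_self T), zero_mul]
    haveI := hP.isPrime
    obtain ⟨q, hq, hqP⟩ := Ideal.exists_minimalPrimes_le hTP
    obtain rfl | hne := eq_or_ne q P
    · exact hq
    exfalso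
    have hqA : q ∈ associatedPrimes (X.presheaf.stalk x) (X.presheaf.stalk x ⧸ Ideal.span {T}) :=
      Module.associatedPrimes.minimalPrimes_annihilator_subset_associatedPrimes _ _ (by rwa [Ideal.annihilator_quotient])
    obtain ⟨w, hw, hwP, hwa⟩ := exists_associated_fibre_point f hm hxy hP
    obtain ⟨w', hw', hwq, hwa'⟩ := exists_associated_fibre_point f hm hxy hqA
    have h1 : w' ⤳ w := (f.fiberι y).isEmbedding.specializes_iff.1
      ((H23.StalkPrimes.primeOf_le_iff hw hw').1 (by rw [hwP, hwq]; exact hqP))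
    obtain rfl := hfib w w' hwa hwa' h1
    exact hne (hwq.symm.trans hwP)
  rw [hgJ, map_pow, ← hT]
  refine span_eq_span_pow hTreg n hass (fun P _ hTP => ?_) (fun P hP _ => ?_)
  · obtain ⟨x', hx', hPx⟩ := H23.StalkPrimes.exists_point P
    have hfx : f x' ⤳ y := (hx'.map f.continuous).trans hx
    have hne : f x' ≠ y := fun e => hTP (by
      rw [← hPx, CDiv6.mem_primeOf, hT, spec_psi f hx' hx]
      have : ∀ {y' : Y} (e : y' = y), ¬ IsUnit ((Y.presheaf.stalkSpecializes (specializes_of_eq e)).hom t) := by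
        rintro y' rfl
        rw [TopCat.Presheaf.stalkSpecializes_refl]
        show t ∈ maximalIdeal _
        rw [hm]; exact Ideal.mem_span_singleton_self t
      exact fun hu => this e ((isUnit_map_iff (f.stalkMap x').hom _).1 hu))
    obtain ⟨h1, -⟩ := hgen x' hfx hne
    rw [hJ.spec hx' (hx.trans hy₀), hgJ, Ideal.map_span, Set.image_singleton, Ideal.span_singleton_eq_top] at h1
    rw [← hPx, CDiv6.mem_primeOf]
    exact not_not_intro h1
  · obtain ⟨x', hx', hPx⟩ := H23.StalkPrimes.exists_point P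
    have hTP : T ∈ P := hP.1.2 (Ideal.mem_span_singleton_self T)
    have hfx : f x' ⤳ y := (hx'.map f.continuous).trans hx
    have hfx' : f x' = y := by
      by_contra hne
      obtain ⟨-, h2⟩ := hgen x' hfx hne
      rw [← hPx, CDiv6.mem_primeOf] at hTP
      exact hTP (by rw [hT]; exact (spec_psi f hx' hx t).symm ▸ h2)
    have hxm : ∀ z, f z = y → z ⤳ x' → z = x' := by
      intro z hz hzx
      have hzx' : z ⤳ x := hzx.trans hx'
      refine H23.StalkPrimes.primeOf_inj hzx' hx' ?_
      have hle : (primeOf hzx').asIdeal ≤ P := hPx ▸ (H23.StalkPrimes.primeOf_le_iff hx' hzx').2 hzx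
      rw [hPx]
      refine le_antisymm hle (hP.2 ⟨(primeOf hzx').2, (Ideal.span_singleton_le_iff_mem _).2 ?_⟩ hle)
      rw [CDiv6.mem_primeOf, hT, spec_psi f hzx' hx]
      intro hu
      have h3 : ∀ {y' : Y} (e : y' = y), ¬ IsUnit ((Y.presheaf.stalkSpecializes (specializes_of_eq e)).hom t) := by
        rintro y' rfl
        rw [TopCat.Presheaf.stalkSpecializes_refl]
        show t ∈ maximalIdeal _
        rw [hm]; exact Ideal.mem_span_singleton_self t
      exact h3 hz ((isUnit_map_iff (f.stalkMap z).hom _).1 hu)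
    have h4 : (Ideal.span {g}).map (X.presheaf.stalkSpecializes hx').hom =
        (Ideal.span {T ^ n}).map (X.presheaf.stalkSpecializes hx').hom := by
      rw [← hgJ, ← hJ.spec hx' (hx.trans hy₀), hn x' hfx' hxm, Ideal.map_span, Set.image_singleton, map_pow, hT,
        spec_psi f hx' hx]
    subst hPx
    letI := (X.presheaf.stalkSpecializes hx').hom.toAlgebra
    haveI : IsLocalization.AtPrime (X.presheaf.stalk x') (primeOf hx').asIdeal :=
      H23.StalkPrimes.isLocalization_primeOf hx'
    let e := IsLocalization.algEquiv (primeOf hx').asIdeal.primeCompl (X.presheaf.stalk x')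
      (Localization.AtPrime (primeOf hx').asIdeal)
    have h5 := congrArg (Ideal.map e.toAlgHom.toRingHom) h4
    rw [Ideal.map_map, Ideal.map_map] at h5
    have h6 : e.toAlgHom.toRingHom.comp (algebraMap (X.presheaf.stalk x) (X.presheaf.stalk x')) =
        algebraMap (X.presheaf.stalk x) (Localization.AtPrime (primeOf hx').asIdeal) := e.toAlgHom.comp_algebraMap
    rw [show (X.presheaf.stalkSpecializes hx').hom = algebraMap (X.presheaf.stalk x) (X.presheaf.stalk x') from rfl, h6] at h5
    exact h5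

/-- a power of the uniformiser at the generic point of an integral fibre -/
theorem exists_pow_of_integral_fibreQ (hJ : IsFam f Q y₀) {y : Y} (hy₀ : y ⤳ y₀)
    [IsIntegral (f.fiber y)] {t : Y.presheaf.stalk y} (hm : maximalIdeal (Y.presheaf.stalk y) = Ideal.span {t}) :
    ∃ n : ℕ, ∀ x (hx : f x = y), (∀ z, f z = y → z ⤳ x → z = x) →
      Q x = Ideal.span {psi f x (specializes_of_eq hx) t ^ n} := by
  let w := genericPoint (f.fiber y)
  let ξ := f.fiberι y w
  have hξ : f ξ = y := FlatDvr.fiberι_apply_eq f w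
  have hmz : maximalIdeal (Y.presheaf.stalk (f ξ)) =
      Ideal.span {(Y.presheaf.stalkSpecializes (specializes_of_eq hξ)).hom t} := by
    have : ∀ (y' : Y) (e : y' = y), maximalIdeal (Y.presheaf.stalk y') =
        Ideal.span {(Y.presheaf.stalkSpecializes (specializes_of_eq e)).hom t} := by
      rintro y' rfl
      rw [TopCat.Presheaf.stalkSpecializes_refl]
      exact hm
    exact this _ hξ
  let q := ((f.fiberι y).stalkMap w).hom
  have hker : RingHom.ker q = Ideal.span {psi f ξ (specializes_of_eq hξ) t} := by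
    rw [FlatDvr.ker_stalkMap_fiberι f w, hmz, Ideal.map_span, Set.image_singleton]
    rfl
  have hmax : (RingHom.ker q).IsMaximal := by
    letI : Field ((f.fiber y).presheaf.stalk w) := inferInstanceAs (Field (f.fiber y).functionField)
    exact RingHom.ker_isMaximal_of_surjective q ((f.fiberι y).stalkMap_surjective w)
  have hT : maximalIdeal (X.presheaf.stalk ξ) = Ideal.span {psi f ξ (specializes_of_eq hξ) t} := by
    rw [← hker]; exact (IsLocalRing.eq_maximalIdeal hmax).symm
  obtain ⟨g, hg, hgJ⟩ := hJ.gen ξ ((specializes_of_eq hξ).trans hy₀)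
  obtain ⟨n, hn⟩ := exists_span_eq_pow hT hg
  refine ⟨n, fun x hx hxm => ?_⟩
  obtain ⟨w', hw'⟩ : x ∈ Set.range (f.fiberι y) := by rw [Scheme.Hom.range_fiberι]; exact hx
  obtain rfl : ξ = x := hxm ξ hξ (hw' ▸ ((genericPoint_spec (f.fiber y)).specializes trivial).map (f.fiberι y).continuous)
  rw [hgJ, hn]

/-- descent of a family over a normal base -/
theorem good_normalQ [Surjective f] (hY : Pi1.IsNormalScheme Y) (hJ : IsFam f Q y₀)
    (hmax : ∀ x : X, f x ⤳ y₀ → (∀ z, z ⤳ f x → z = f x) → Q x = ⊤)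
    (hfib : ∀ y : Y, ringKrullDim (Y.presheaf.stalk y) = 1 → IsIntegral (f.fiber y)) :
    GoodQ f Q y₀ := by
  refine good_allQ hJ (fun y hy₀ hy => ?_) y₀ specializes_rfl
  haveI := (hY y).1
  haveI := (hY y).2
  by_cases h1 : (1 : ℕ∞) ≤ LocCoh.depth (Y.presheaf.stalk y) (Y.presheaf.stalk y)
  · haveI := CDiv6.isDVR_of_depth_eq_one (Y.presheaf.stalk y) (le_antisymm hy h1)
    have hdim : ringKrullDim (Y.presheaf.stalk y) = 1 :=
      IsPrincipalIdealRing.ringKrullDim_eq_one _ (IsDiscreteValuationRing.not_isField _)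
    haveI := hfib y hdim
    obtain ⟨t, ht⟩ := (IsPrincipalIdealRing.principal (maximalIdeal (Y.presheaf.stalk y))).principal
    obtain ⟨n, hn⟩ := exists_pow_of_integral_fibreQ hJ hy₀ ht
    refine good_of_dvrQ hy₀ hJ hmax (fun y' hy' hne => ?_) (fun z z' hz _ h => eq_of_isAssociated_of_isIntegral hz h) ht n hn
    haveI := (hY y').1
    intro z hz
    by_contra hzne
    -- three points in a chain above a point of dimension one
    have hfin : ∀ w : Y, Order.coheight w < ⊤ := fun w => by
      have hlt := ringKrullDim_lt_top (R := Y.presheaf.stalk w)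
      rw [ringKrullDim_stalk_eq_coheight] at hlt
      by_contra h
      rw [not_lt, top_le_iff] at h
      rw [h] at hlt
      exact lt_irrefl _ hlt
    rw [ringKrullDim_stalk_eq_coheight] at hdim
    have hd : Order.coheight y = (1 : ℕ∞) := by exact_mod_cast hdim
    have h2 : Order.coheight y' < Order.coheight y := Order.coheight_strictAnti
      ⟨Scheme.le_iff_specializes.2 hy', fun h => hne (hy'.antisymm (Scheme.le_iff_specializes.1 h)).eq⟩ (hfin _)
    have h3 : Order.coheight z < Order.coheight y' := Order.coheight_strictAnti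
      ⟨Scheme.le_iff_specializes.2 hz, fun h => hzne (hz.antisymm (Scheme.le_iff_specializes.1 h)).eq⟩ (hfin _)
    rw [hd, Order.lt_one_iff] at h2
    rw [h2] at h3
    exact not_lt_bot h3
  · have hass : maximalIdeal (Y.presheaf.stalk y) ∈ associatedPrimes (Y.presheaf.stalk y) (Y.presheaf.stalk y) := by
      by_contra h
      exact h1 (Alg6.one_le_depth_iff.2 h)
    have hbot : maximalIdeal (Y.presheaf.stalk y) = ⊥ := by
      obtain ⟨-, z, hz⟩ := Alg6.mem_ass_iff.1 hass
      refine le_antisymm (fun r hr => ?_) bot_le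
      have hz0 : z ≠ 0 := fun h => (maximalIdeal.isMaximal (Y.presheaf.stalk y)).ne_top
        ((Ideal.eq_top_iff_one _).2 ((hz 1).2 (by rw [h, smul_zero])))
      have := (hz r).1 hr
      rw [smul_eq_mul] at this
      exact (Submodule.mem_bot _).2 ((mul_eq_zero.1 this).resolve_right hz0)
    refine ⟨1, Submonoid.one_mem _, fun x hx => ?_⟩
    have hm := maximal_of_maximalIdeal_eq_bot hbot
    obtain rfl := hm _ hx
    rw [map_one, Ideal.span_singleton_one]
    exact hmax x hy₀ hm

end Groth.Agent.Div21Lib
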