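import Groth.Agent.Div21Lib.Descent

/-!
# Divisors on the spectrum of a local ring
-/

set_option autoImplicit false
set_option linter.style.haveILetI false
set_option backward.isDefEq.respectTransparency false
set_option backward.isDefEq.respectTransparency.types false
universe u

open AlgebraicGeometry CategoryTheory CategoryTheory.Limits TopologicalSpace IsLocalRing

namespace Groth.Agent.Div21Lib

theorem equiv_mem_nonZeroDivisors {A B : Type*} [CommRing A] [CommRing B] (e : A ≃+* B) {a : A}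
    (ha : a ∈ nonZeroDivisors A) : e a ∈ nonZeroDivisors B := by
  rw [mem_nonZeroDivisors_iff_right] at ha ⊢
  intro b hb
  exact e.symm.injective (by rw [map_zero]; exact ha _ (e.injective (by rw [map_mul, e.apply_symm_apply, hb, map_zero])))

theorem exists_top_gen (A : CommRingCat.{u}) [IsLocalRing A] (I : (Spec A).IdealSheafData)
    (hI : BlowUp.IsEffCartierIdeal I) :
    ∃ a : A, a ∈ nonZeroDivisors A ∧
      I.ideal ⟨⊤, isAffineOpen_top _⟩ = Ideal.span {(Scheme.ΓSpecIso A).inv a} := by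
  obtain ⟨U, hU, g, hg, hUg⟩ := hI (IsLocalRing.closedPoint A)
  obtain ⟨U, hUa⟩ := U
  obtain rfl : U = ⊤ := (IsLocalRing.closedPoint_mem_iff (R := A) U).1 hU
  refine ⟨(Scheme.ΓSpecIso A).hom g, ?_, ?_⟩
  · exact equiv_mem_nonZeroDivisors (Scheme.ΓSpecIso A).commRingCatIsoToRingEquiv hg
  · rw [Iso.hom_inv_id_apply]; exact hUg

theorem isEffCartier_of_top (A : CommRingCat.{u}) (I : (Spec A).IdealSheafData) {g : Γ(Spec A, ⊤)}
    (hg : g ∈ nonZeroDivisors Γ(Spec A, ⊤)) (h : I.ideal ⟨⊤, isAffineOpen_top _⟩ = Ideal.span {g}) :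
    BlowUp.IsEffCartierIdeal I :=
  fun _ => ⟨⟨⊤, isAffineOpen_top _⟩, trivial, g, hg, h⟩

theorem ideal_comap_SpecMap {A B : CommRingCat.{u}} (φ : A ⟶ B) (I : (Spec A).IdealSheafData) {a : A}
    (h : I.ideal ⟨⊤, isAffineOpen_top _⟩ = Ideal.span {(Scheme.ΓSpecIso A).inv a}) :
    (I.comap (Spec.map φ)).ideal ⟨⊤, isAffineOpen_top _⟩ = Ideal.span {(Scheme.ΓSpecIso B).inv (φ a)} := by
  rw [ModPairLib.ideal_comap I (Spec.map φ) ⟨⊤, isAffineOpen_top _⟩ ⟨⊤, isAffineOpen_top _⟩ le_rfl, h,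
    Ideal.map_span, Set.image_singleton]
  congr 2
  have e : (Spec.map φ).appLE ⊤ ⊤ le_rfl = (Spec.map φ).appTop := by
    rw [Scheme.Hom.appTop, Scheme.Hom.app_eq_appLE]; rfl
  show (Spec.map φ).appLE ⊤ ⊤ le_rfl _ = _
  rw [e]
  exact (RingHom.congr_fun (congrArg CommRingCat.Hom.hom (Scheme.ΓSpecIso_inv_naturality φ)) a).symm

theorem map_inv_injective (A : CommRingCat.{u}) {I K : Ideal A}
    (h : I.map (Scheme.ΓSpecIso A).inv.hom = K.map (Scheme.ΓSpecIso A).inv.hom) : I = K := by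
  have hb := ConcreteCategory.bijective_of_isIso (Scheme.ΓSpecIso A).inv
  have := congrArg (Ideal.comap (Scheme.ΓSpecIso A).inv.hom) h
  rwa [Ideal.comap_map_of_bijective _ hb, Ideal.comap_map_of_bijective _ hb] at this

variable {X Y : Scheme.{u}} (f : X ⟶ Y)

theorem good_of_local (J : X.IdealSheafData) (y : Y)
    (h : ∃ I₁ : (Spec (Y.presheaf.stalk y)).IdealSheafData, BlowUp.IsEffCartierIdeal I₁ ∧
      I₁.comap (pullback.snd f (Y.fromSpecStalk y)) = J.comap (pullback.fst f (Y.fromSpecStalk y))) :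
    Good f J y := by
  obtain ⟨I₁, hI₁, he⟩ := h
  obtain ⟨a, ha, hIa⟩ := exists_top_gen _ I₁ hI₁
  refine ⟨a, ha, fun x hx => ?_⟩
  let φ : Y.presheaf.stalk y ⟶ X.presheaf.stalk x := CommRingCat.ofHom (psi f x hx)
  have hw : X.fromSpecStalk x ≫ f = Spec.map φ ≫ Y.fromSpecStalk y := by
    rw [show φ = Y.presheaf.stalkSpecializes hx ≫ f.stalkMap x from rfl, Spec.map_comp, Category.assoc,
      Scheme.SpecMap_stalkSpecializes_fromSpecStalk, Scheme.SpecMap_stalkMap_fromSpecStalk]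
  have h2 := congrArg (fun I => I.comap (pullback.lift (X.fromSpecStalk x) (Spec.map φ) hw)) he
  simp only [← Scheme.IdealSheafData.comap_comp, pullback.lift_fst, pullback.lift_snd] at h2
  refine map_inv_injective _ ?_
  rw [← ideal_comap_fromSpecStalk, ← h2, ideal_comap_SpecMap φ I₁ hIa, Ideal.map_span, Set.image_singleton]
  rfl

theorem local_of_descent (J : X.IdealSheafData) (I : Y.IdealSheafData) (hI : BlowUp.IsEffCartierIdeal I)
    (he : I.comap f = J) (y : Y) :
    ∃ I₁ : (Spec (Y.presheaf.stalk y)).IdealSheafData, BlowUp.IsEffCartierIdeal I₁ ∧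
      I₁.comap (pullback.snd f (Y.fromSpecStalk y)) = J.comap (pullback.fst f (Y.fromSpecStalk y)) := by
  obtain ⟨g, hg, hIg⟩ := exists_gen I hI y
  refine ⟨I.comap (Y.fromSpecStalk y), isEffCartier_of_top _ _
    (g := (Scheme.ΓSpecIso (Y.presheaf.stalk y)).inv g) ?_ ?_, ?_⟩
  · exact equiv_mem_nonZeroDivisors (Scheme.ΓSpecIso _).symm.commRingCatIsoToRingEquiv hg
  · rw [ideal_comap_fromSpecStalk, hIg, Ideal.map_span, Set.image_singleton]
  · rw [← he, ← Scheme.IdealSheafData.comap_comp, ← Scheme.IdealSheafData.comap_comp, pullback.condition]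

end Groth.Agent.Div21Lib
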