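import Groth.Agent.Div21Lib.Principal

/-!
# Local equations of prime divisors
-/

set_option autoImplicit false
set_option linter.style.haveILetI false
set_option backward.isDefEq.respectTransparency false
set_option backward.isDefEq.respectTransparency.types false
universe u

open AlgebraicGeometry CategoryTheory TopologicalSpace IsLocalRing
open Groth.Agent.CDiv6 (primeOf)

namespace Groth.Agent.Div21Lib

variable {X : Scheme.{u}} [IsIntegral X] [IsLocallyNoetherian X]

theorem principal_of_ord (hX : Pi1.IsNormalScheme X) {ζ x : X} (hx : ζ ⤳ x) (hζ : Order.coheight ζ = 1)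
    {c : X.functionField} (hc : c ≠ 0) (h1 : Scheme.ord c ζ = 1)
    (h0 : ∀ z : X, z ⤳ x → z ≠ ζ → Order.coheight z = 1 → Scheme.ord c z = 0) :
    ∃ t ∈ nonZeroDivisors (X.presheaf.stalk x), (primeOf hx).asIdeal = Ideal.span {t} := by
  obtain ⟨t, ht⟩ := CDiv6.reg_of_forall_ord_nonneg hX (x := x) hc fun z hz hz1 => by
    by_cases hne : z = ζ
    · subst hne; omega
    · exact (h0 z hz hne hz1).ge
  have ht0 : t ≠ 0 := fun e => hc (by rw [← ht, e, map_zero])
  refine ⟨t, mem_nonZeroDivisors_of_ne_zero ht0, le_antisymm (fun r hr => ?_) ((Ideal.span_singleton_le_iff_mem _).2 ?_)⟩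
  · rcases eq_or_ne r 0 with rfl | hr0
    · exact zero_mem _
    have hr1 := CDiv6.one_le_ord_toK hX hx hζ hr0 hr
    let F : CDiv.KUnits X := Units.mk0 c hc
    obtain ⟨q, hq⟩ := CDiv6.reg_of_forall_ord_nonneg hX (x := x) (CDiv6.toK r hr0 / F : CDiv.KUnits X).ne_zero
      fun z hz hz1 => by
        rw [CDiv6.ord_div_unit]
        show 0 ≤ _ - Scheme.ord c z
        by_cases hne : z = ζ
        · subst hne; omega
        · have := CDiv6.ord_toK_nonneg hz hr0
          have := h0 z hz hne hz1
          omega
    refine Ideal.mem_span_singleton'.mpr ⟨q, IsFractionRing.injective (X.presheaf.stalk x) X.functionField ?_⟩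
    rw [map_mul, hq, ht, show c = (F : X.functionField) from rfl, ← Units.val_mul, div_mul_cancel]
    rfl
  · by_contra hn
    have h2 := CDiv6.ord_toK_eq_zero hx ht0 hn
    change Scheme.ord (algebraMap (X.presheaf.stalk x) X.functionField t) ζ = 0 at h2
    rw [ht, h1] at h2
    exact one_ne_zero h2

end Groth.Agent.Div21Lib
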