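import Groth.Agent.Div21Lib.Local
import Groth.Agent.FlatDvr.FibreStalk
import Groth.Prelude.Def_Pi1

/-!
# Descent of divisors over a normal base
-/

set_option autoImplicit false
set_option linter.style.haveILetI false
set_option backward.isDefEq.respectTransparency false
set_option backward.isDefEq.respectTransparency.types false
universe u

open AlgebraicGeometry CategoryTheory CategoryTheory.Limits TopologicalSpace IsLocalRing
open Groth.Agent.CDiv6 (primeOf)

namespace Groth.Agent.Div21Lib

variable {X Y : Scheme.{u}}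

theorem st_top (x : X) : st (⊤ : X.IdealSheafData) x = ⊤ := by
  obtain ⟨U, hx⟩ := exists_affine_mem x
  rw [st_eq _ U hx, CDivEq.stk, Scheme.IdealSheafData.ideal_top, Pi.top_apply, Ideal.map_top]

/-- triviality on a fibre, pointwise -/
theorem comap_fiberι_eq_top_iff (f : X ⟶ Y) (J : X.IdealSheafData) (y : Y) :
    J.comap (f.fiberι y) = ⊤ ↔ ∀ x, f x = y → st J x = ⊤ := by
  constructor
  · intro h x hx
    obtain ⟨w, rfl⟩ : x ∈ Set.range (f.fiberι y) := by rw [Scheme.Hom.range_fiberι]; exact hx
    have h1 := st_comap (f.fiberι y) J w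
    rw [h, st_top] at h1
    by_contra hne
    have h2 : (st J (f.fiberι y w)).map ((f.fiberι y).stalkMap w).hom ≤ maximalIdeal _ :=
      Ideal.map_le_iff_le_comap.2 fun r hr hu =>
        IsLocalRing.le_maximalIdeal hne hr (isUnit_of_map_unit _ r hu)
    rw [← h1] at h2
    exact (maximalIdeal.isMaximal _).ne_top (top_le_iff.1 h2)
  · intro h
    refine ext_st fun w => ?_
    rw [st_comap, h _ (FlatDvr.fiberι_apply_eq f w), Ideal.map_top, st_top]

theorem eq_of_isMax_of_specializes {y z : Y} (hy : ∀ w : Y, w ⤳ y → w = y) (h : z ⤳ y) : z = y := hy z h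

/-- a point with a field as local ring is maximal -/
theorem maximal_of_maximalIdeal_eq_bot {y : Y} [IsDomain (Y.presheaf.stalk y)]
    (h : maximalIdeal (Y.presheaf.stalk y) = ⊥) : ∀ z, z ⤳ y → z = y := by
  intro z hz
  refine H23.StalkPrimes.primeOf_inj hz specializes_rfl (le_antisymm ?_ ?_)
  · refine (IsLocalRing.le_maximalIdeal (primeOf hz).2.ne_top).trans ?_
    rw [h]; exact bot_le
  · refine (IsLocalRing.le_maximalIdeal (primeOf (specializes_rfl : y ⤳ y)).2.ne_top).trans ?_
    rw [h]; exact bot_le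

theorem maximalIdeal_eq_bot_of_maximal [IsLocallyNoetherian Y] {y : Y} [IsDomain (Y.presheaf.stalk y)]
    (h : ∀ z, z ⤳ y → z = y) : maximalIdeal (Y.presheaf.stalk y) = ⊥ := by
  obtain ⟨z, hz, hP⟩ := H23.StalkPrimes.exists_point (⊥ : Ideal (Y.presheaf.stalk y))
  obtain rfl := h z hz
  refine le_antisymm (fun r hr => ?_) bot_le
  rw [← hP, CDiv6.mem_primeOf, TopCat.Presheaf.stalkSpecializes_refl]
  exact hr

variable (f : X ⟶ Y) [Flat f] (J : X.IdealSheafData)

/-- trivial on the fibre over a maximal point: descends there -/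
theorem good_of_field {y : Y} (hy : ∀ z, z ⤳ y → z = y) (h : J.comap (f.fiberι y) = ⊤) : Good f J y := by
  refine ⟨1, Submonoid.one_mem _, fun x hx => ?_⟩
  rw [map_one, Ideal.span_singleton_one]
  exact (comap_fiberι_eq_top_iff f J y).1 h x (hy _ hx)

variable [IsLocallyNoetherian Y]

/-- an associated point of the quotient by a uniformiser gives an associated point of the fibre -/
theorem exists_associated_fibre_point {y : Y} {t : Y.presheaf.stalk y}
    (hm : maximalIdeal (Y.presheaf.stalk y) = Ideal.span {t}) [IsLocallyNoetherian X] {x : X} (hx : f x = y)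
    {P : Ideal (X.presheaf.stalk x)}
    (hP : P ∈ associatedPrimes (X.presheaf.stalk x)
      (X.presheaf.stalk x ⧸ Ideal.span {psi f x (specializes_of_eq hx) t})) :
    ∃ (w : ↥(f.fiber y)) (hw : f.fiberι y w ⤳ x), (primeOf hw).asIdeal = P ∧
      IsAssociatedPrime (maximalIdeal ((f.fiber y).presheaf.stalk w)) ((f.fiber y).presheaf.stalk w) := by
  obtain ⟨hPp, v, hv⟩ := Alg6.mem_ass_iff.1 hP
  haveI := hPp
  obtain ⟨v, rfl⟩ := Ideal.Quotient.mk_surjective v
  set T := psi f x (specializes_of_eq hx) t with hT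
  have hv' : ∀ r, r ∈ P ↔ r * v ∈ Ideal.span {T} := fun r => by
    rw [hv, Algebra.smul_def, Ideal.Quotient.algebraMap_eq, ← map_mul, Ideal.Quotient.eq_zero_iff_mem]
  obtain ⟨z, hz, hPz⟩ := H23.StalkPrimes.exists_point P
  subst hx
  have hTP : T ∈ P := (hv' T).2 (Ideal.mul_mem_right _ _ (Ideal.mem_span_singleton_self T))
  have hfz : f z = f x := by
    refine H23.StalkPrimes.primeOf_inj (hz.map f.continuous) specializes_rfl ?_
    rw [← H23.StalkPrimes.comap_primeOf f hz, hPz]
    have h0 : (primeOf (specializes_rfl : f x ⤳ f x)).asIdeal = maximalIdeal _ := by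
      refine Ideal.ext fun r => ?_
      rw [CDiv6.mem_primeOf, IsLocalRing.mem_maximalIdeal, mem_nonunits_iff]
      simp [TopCat.Presheaf.stalkSpecializes_refl]
    rw [h0]
    refine ((maximalIdeal.isMaximal _).eq_of_le (Ideal.IsPrime.ne_top inferInstance) ?_).symm
    rw [hm, Ideal.span_singleton_le_iff_mem]
    rw [hT, psi_refl] at hTP
    exact hTP
  obtain ⟨w, rfl⟩ : z ∈ Set.range (f.fiberι (f x)) := by rw [Scheme.Hom.range_fiberι]; exact hfz
  refine ⟨w, hz, hPz, ?_⟩
  letI := (X.presheaf.stalkSpecializes hz).hom.toAlgebra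
  haveI : IsLocalization.AtPrime (X.presheaf.stalk (f.fiberι (f x) w)) (primeOf hz).asIdeal :=
    H23.StalkPrimes.isLocalization_primeOf hz
  let q := ((f.fiberι (f x)).stalkMap w).hom
  have hq : RingHom.ker q = Ideal.span {(X.presheaf.stalkSpecializes hz).hom T} := by
    rw [FlatDvr.ker_stalkMap_fiberι f w]
    set z' := f.fiberι (f x) w
    have hmz : maximalIdeal (Y.presheaf.stalk (f z')) =
        Ideal.span {(Y.presheaf.stalkSpecializes (specializes_of_eq hfz)).hom t} := by
      have : ∀ (y' : Y) (e : y' = f x), maximalIdeal (Y.presheaf.stalk y') =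
          Ideal.span {(Y.presheaf.stalkSpecializes (specializes_of_eq e)).hom t} := by
        rintro y' rfl
        rw [TopCat.Presheaf.stalkSpecializes_refl]
        exact hm
      exact this _ hfz
    rw [hmz, Ideal.map_span, Set.image_singleton, hT, spec_psi f hz]
    rfl
  have hsurj : Function.Surjective q := (f.fiberι (f x)).stalkMap_surjective w
  have hmem : ∀ r : X.presheaf.stalk (f.fiberι (f x) w),
      r ∈ maximalIdeal _ ↔ q (r * (X.presheaf.stalkSpecializes hz).hom v) = 0 := by
    intro r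
    rw [← RingHom.mem_ker, hq]
    obtain ⟨a, s, rfl⟩ := IsLocalization.exists_mk'_eq (primeOf hz).asIdeal.primeCompl r
    rw [IsLocalization.AtPrime.mk'_mem_maximal_iff (X.presheaf.stalk (f.fiberι (f x) w)) (primeOf hz).asIdeal]
    rw [← Ideal.mul_unit_mem_iff_mem _ (IsLocalization.map_units (X.presheaf.stalk (f.fiberι (f x) w)) s),
      mul_right_comm, IsLocalization.mk'_spec, ← Set.image_singleton, ← Ideal.map_span]
    show a ∈ (primeOf hz).asIdeal ↔ algebraMap _ (X.presheaf.stalk (f.fiberι (f x) w)) a * algebraMap _ _ v ∈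
      (Ideal.span {T}).map (algebraMap _ _)
    rw [← map_mul, IsLocalization.algebraMap_mem_map_algebraMap_iff (primeOf hz).asIdeal.primeCompl]
    refine ⟨fun ha => ⟨1, (Ideal.primeCompl _).one_mem, by rw [one_mul]; exact (hv' a).1 (hPz ▸ ha)⟩, ?_⟩
    rintro ⟨u, hu, huv⟩
    exact hPz.symm ▸ (hPp.mem_or_mem ((hv' (u * a)).2 (by rwa [mul_assoc]))).resolve_left (fun h => hu (hPz.symm ▸ h))
  haveI : IsLocallyNoetherian X := ‹_›
  haveI : IsNoetherianRing ((f.fiber (f x)).presheaf.stalk w) := isNoetherianRing_of_surjective _ _ q hsurj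
  refine Alg6.mem_ass_iff.2 ⟨inferInstance, q ((X.presheaf.stalkSpecializes hz).hom v), fun r => ?_⟩
  obtain ⟨r, rfl⟩ := hsurj r
  rw [smul_eq_mul, ← map_mul, ← hmem]
  show ¬ IsUnit (q r) ↔ ¬ IsUnit r
  rw [isUnit_map_iff]

variable [IsLocallyNoetherian X] (hY : Pi1.IsNormalScheme Y)

/-- the discrete valuation case -/
theorem good_of_dvr {y : Y} [IsDomain (Y.presheaf.stalk y)] [IsDiscreteValuationRing (Y.presheaf.stalk y)]
    (hJ : BlowUp.IsEffCartierIdeal J)
    (hmax : ∀ η : Y, (∀ z, z ⤳ η → z = η) → J.comap (f.fiberι η) = ⊤)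
    (hgenY : ∀ y' : Y, y' ⤳ y → y' ≠ y → ∀ z, z ⤳ y' → z = y')
    (hfib : ∀ z z' : ↥(f.fiber y),
      IsAssociatedPrime (maximalIdeal ((f.fiber y).presheaf.stalk z)) ((f.fiber y).presheaf.stalk z) →
      IsAssociatedPrime (maximalIdeal ((f.fiber y).presheaf.stalk z')) ((f.fiber y).presheaf.stalk z') →
      z' ⤳ z → z' = z)
    {t : Y.presheaf.stalk y} (hm : maximalIdeal (Y.presheaf.stalk y) = Ideal.span {t}) (n : ℕ)
    (hn : ∀ x (hx : f x = y), (∀ z, f z = y → z ⤳ x → z = x) →
      st J x = Ideal.span {psi f x (specializes_of_eq hx) t ^ n}) :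
    Good f J y := by
  have ht0 : t ≠ 0 := fun h => IsDiscreteValuationRing.not_isField (Y.presheaf.stalk y)
    (IsLocalRing.isField_iff_maximalIdeal_eq.2 (by rw [hm, h, Ideal.span_singleton_eq_bot]))
  refine ⟨t ^ n, pow_mem (mem_nonZeroDivisors_of_ne_zero ht0) n, fun x hx => ?_⟩
  have hgen : ∀ (x' : X) (hx' : f x' ⤳ y), f x' ≠ y →
      st J x' = ⊤ ∧ IsUnit (psi f x' hx' t) := by
    intro x' hx' hne
    refine ⟨(comap_fiberι_eq_top_iff f J _).1 (hmax _ (hgenY _ hx' hne)) x' rfl, ?_⟩
    refine IsUnit.map (f.stalkMap x').hom ?_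
    by_contra hu
    refine hne (H23.StalkPrimes.primeOf_inj hx' specializes_rfl ?_)
    have h0 : (primeOf (specializes_rfl : y ⤳ y)).asIdeal = maximalIdeal _ := by
      refine Ideal.ext fun r => ?_
      rw [CDiv6.mem_primeOf, IsLocalRing.mem_maximalIdeal, mem_nonunits_iff]
      simp [TopCat.Presheaf.stalkSpecializes_refl]
    rw [h0]
    refine le_antisymm (IsLocalRing.le_maximalIdeal (primeOf hx').2.ne_top) ?_
    rw [hm, Ideal.span_singleton_le_iff_mem, CDiv6.mem_primeOf]
    exact hu
  by_cases hxy : f x = y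
  swap
  · obtain ⟨h1, h2⟩ := hgen x hx hxy
    rw [h1, Eq.comm, Ideal.span_singleton_eq_top, map_pow]
    exact h2.pow n
  obtain ⟨g, hg, hgJ⟩ := exists_gen J hJ x
  set T := psi f x hx t with hT
  have hTreg : T ∈ nonZeroDivisors (X.presheaf.stalk x) := by
    obtain ⟨h1, -⟩ := flat_psi f x hxy
    letI := (psi f x (specializes_of_eq hxy)).toAlgebra
    haveI : Module.Flat (Y.presheaf.stalk y) (X.presheaf.stalk x) := h1
    have hreg : IsSMulRegular (Y.presheaf.stalk y) t := fun a b h => mul_left_cancel₀ ht0 h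
    have h2 : IsSMulRegular (X.presheaf.stalk x) (algebraMap (Y.presheaf.stalk y) (X.presheaf.stalk x) t) := hreg.of_flat
    rw [mem_nonZeroDivisors_iff_right]
    intro b hb
    exact h2 (show T * b = T * 0 by rw [mul_zero, mul_comm]; exact hb)
  -- associated primes of the quotient are minimal
  have hass : ∀ P ∈ associatedPrimes (X.presheaf.stalk x) (X.presheaf.stalk x ⧸ Ideal.span {T}),
      P ∈ (Ideal.span {T}).minimalPrimes := by
    intro P hP
    have hTP : Ideal.span {T} ≤ P := by
      obtain ⟨-, v, hv⟩ := Alg6.mem_ass_iff.1 hP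
      refine (Ideal.span_singleton_le_iff_mem _).2 ((hv T).2 ?_)
      rw [Algebra.smul_def, Ideal.Quotient.algebraMap_eq,
        Ideal.Quotient.eq_zero_iff_mem.2 (Ideal.mem_span_singleton_self T), zero_mul]
    haveI := hP.isPrime
    obtain ⟨q, hq, hqP⟩ := Ideal.exists_minimalPrimes_le hTP
    obtain rfl | hne := eq_or_ne q P
    · exact hq
    exfalso
    have hqA : q ∈ associatedPrimes (X.presheaf.stalk x) (X.presheaf.stalk x ⧸ Ideal.span {T}) :=
      Module.associatedPrimes.minimalPrimes_annihilator_subset_associatedPrimes _ _ (by rwa [Ideal.annihilator_quotient])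
    obtain ⟨w, hw, hwP, hwa⟩ := exists_associated_fibre_point f hm hxy hP
    obtain ⟨w', hw', hwq, hwa'⟩ := exists_associated_fibre_point f hm hxy hqA
    have h1 : w' ⤳ w := (f.fiberι y).isEmbedding.specializes_iff.1
      ((H23.StalkPrimes.primeOf_le_iff hw hw').1 (by rw [hwP, hwq]; exact hqP))
    obtain rfl := hfib w w' hwa hwa' h1
    exact hne (hwq.symm.trans hwP)
  rw [hgJ, map_pow, ← hT]
  refine span_eq_span_pow hTreg n hass (fun P _ hTP => ?_) (fun P hP _ => ?_)
  · obtain ⟨x', hx', hPx⟩ := H23.StalkPrimes.exists_point P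
    have hfx : f x' ⤳ y := (hx'.map f.continuous).trans hx
    have hne : f x' ≠ y := fun e => hTP (by
      rw [← hPx, CDiv6.mem_primeOf, hT, spec_psi f hx' hx]
      have : ∀ {y' : Y} (e : y' = y), ¬ IsUnit ((Y.presheaf.stalkSpecializes (specializes_of_eq e)).hom t) := by
        rintro y' rfl
        rw [TopCat.Presheaf.stalkSpecializes_refl]
        show t ∈ maximalIdeal _
        rw [hm]; exact Ideal.mem_span_singleton_self t
      exact fun hu => this e ((isUnit_map_iff (f.stalkMap x').hom _).1 hu))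
    obtain ⟨h1, -⟩ := hgen x' hfx hne
    rw [st_specializes J hx', hgJ, Ideal.map_span, Set.image_singleton, Ideal.span_singleton_eq_top] at h1
    rw [← hPx, CDiv6.mem_primeOf]
    exact not_not_intro h1
  · obtain ⟨x', hx', hPx⟩ := H23.StalkPrimes.exists_point P
    have hTP : T ∈ P := hP.1.2 (Ideal.mem_span_singleton_self T)
    have hfx : f x' ⤳ y := (hx'.map f.continuous).trans hx
    have hfx' : f x' = y := by
      by_contra hne
      obtain ⟨-, h2⟩ := hgen x' hfx hne
      rw [← hPx, CDiv6.mem_primeOf] at hTP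
      exact hTP (by rw [hT]; exact (spec_psi f hx' hx t).symm ▸ h2)
    have hxm : ∀ z, f z = y → z ⤳ x' → z = x' := by
      intro z hz hzx
      have hzx' : z ⤳ x := hzx.trans hx'
      refine H23.StalkPrimes.primeOf_inj hzx' hx' ?_
      have hle : (primeOf hzx').asIdeal ≤ P := hPx ▸ (H23.StalkPrimes.primeOf_le_iff hx' hzx').2 hzx
      rw [hPx]
      refine le_antisymm hle (hP.2 ⟨(primeOf hzx').2, (Ideal.span_singleton_le_iff_mem _).2 ?_⟩ hle)
      rw [CDiv6.mem_primeOf, hT, spec_psi f hzx' hx]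
      intro hu
      have h3 : ∀ {y' : Y} (e : y' = y), ¬ IsUnit ((Y.presheaf.stalkSpecializes (specializes_of_eq e)).hom t) := by
        rintro y' rfl
        rw [TopCat.Presheaf.stalkSpecializes_refl]
        show t ∈ maximalIdeal _
        rw [hm]; exact Ideal.mem_span_singleton_self t
      exact h3 hz ((isUnit_map_iff (f.stalkMap z).hom _).1 hu)
    have h4 : (Ideal.span {g}).map (X.presheaf.stalkSpecializes hx').hom =
        (Ideal.span {T ^ n}).map (X.presheaf.stalkSpecializes hx').hom := by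
      rw [← hgJ, ← st_specializes J hx', hn x' hfx' hxm, Ideal.map_span, Set.image_singleton, map_pow, hT,
        spec_psi f hx' hx]
    subst hPx
    letI := (X.presheaf.stalkSpecializes hx').hom.toAlgebra
    haveI : IsLocalization.AtPrime (X.presheaf.stalk x') (primeOf hx').asIdeal :=
      H23.StalkPrimes.isLocalization_primeOf hx'
    let e := IsLocalization.algEquiv (primeOf hx').asIdeal.primeCompl (X.presheaf.stalk x')
      (Localization.AtPrime (primeOf hx').asIdeal)
    have h5 := congrArg (Ideal.map e.toAlgHom.toRingHom) h4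
    rw [Ideal.map_map, Ideal.map_map] at h5
    have h6 : e.toAlgHom.toRingHom.comp (algebraMap (X.presheaf.stalk x) (X.presheaf.stalk x')) =
        algebraMap (X.presheaf.stalk x) (Localization.AtPrime (primeOf hx').asIdeal) := e.toAlgHom.comp_algebraMap
    rw [show (X.presheaf.stalkSpecializes hx').hom = algebraMap (X.presheaf.stalk x) (X.presheaf.stalk x') from rfl, h6] at h5
    exact h5

include hY in
/-- descent over a normal base -/
theorem exists_descent_normal [Surjective f] (hf : QuasiCompact f ∨ IsOpenMap f) (hJ : BlowUp.IsEffCartierIdeal J)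
    (hmax : ∀ η : Y, (∀ z, z ⤳ η → z = η) → J.comap (f.fiberι η) = ⊤)
    (hfib : ∀ y : Y, ringKrullDim (Y.presheaf.stalk y) = 1 → ∀ z z' : ↥(f.fiber y),
      IsAssociatedPrime (maximalIdeal ((f.fiber y).presheaf.stalk z)) ((f.fiber y).presheaf.stalk z) →
      IsAssociatedPrime (maximalIdeal ((f.fiber y).presheaf.stalk z')) ((f.fiber y).presheaf.stalk z') →
      z' ⤳ z → z' = z)
    (hn : ∀ y : Y, ringKrullDim (Y.presheaf.stalk y) = 1 → ∃ n : ℕ, ∃ t : Y.presheaf.stalk y,
      maximalIdeal (Y.presheaf.stalk y) = Ideal.span {t} ∧ ∀ x (hx : f x = y),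
        (∀ z, f z = y → z ⤳ x → z = x) → st J x = Ideal.span {psi f x (specializes_of_eq hx) t ^ n}) :
    ∃ I : Y.IdealSheafData, BlowUp.IsEffCartierIdeal I ∧ I.comap f = J := by
  refine exists_descent hf hJ (good_all hJ fun y hy => ?_)
  haveI := (hY y).1
  haveI := (hY y).2
  by_cases h1 : (1 : ℕ∞) ≤ LocCoh.depth (Y.presheaf.stalk y) (Y.presheaf.stalk y)
  · haveI := CDiv6.isDVR_of_depth_eq_one (Y.presheaf.stalk y) (le_antisymm hy h1)
    have hdim : ringKrullDim (Y.presheaf.stalk y) = 1 :=
      IsPrincipalIdealRing.ringKrullDim_eq_one _ (IsDiscreteValuationRing.not_isField _)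
    obtain ⟨n, t, ht, htn⟩ := hn y hdim
    refine good_of_dvr f J hJ hmax (fun y' hy' hne => ?_) (hfib y hdim) ht n htn
    haveI := (hY y').1
    intro z hz
    by_contra hzne
    -- three points in a chain above a point of dimension one
    have hfin : ∀ w : Y, Order.coheight w < ⊤ := fun w => by
      have hlt := ringKrullDim_lt_top (R := Y.presheaf.stalk w)
      rw [ringKrullDim_stalk_eq_coheight] at hlt
      by_contra h
      rw [not_lt, top_le_iff] at h
      rw [h] at hlt
      exact lt_irrefl _ hlt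
    rw [ringKrullDim_stalk_eq_coheight] at hdim
    have hd : Order.coheight y = (1 : ℕ∞) := by exact_mod_cast hdim
    have h2 : Order.coheight y' < Order.coheight y := Order.coheight_strictAnti
      ⟨Scheme.le_iff_specializes.2 hy', fun h => hne (hy'.antisymm (Scheme.le_iff_specializes.1 h)).eq⟩ (hfin _)
    have h3 : Order.coheight z < Order.coheight y' := Order.coheight_strictAnti
      ⟨Scheme.le_iff_specializes.2 hz, fun h => hzne (hz.antisymm (Scheme.le_iff_specializes.1 h)).eq⟩ (hfin _)
    rw [hd, Order.lt_one_iff] at h2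
    rw [h2] at h3
    exact not_lt_bot h3
  · have hass : maximalIdeal (Y.presheaf.stalk y) ∈ associatedPrimes (Y.presheaf.stalk y) (Y.presheaf.stalk y) := by
      by_contra h
      exact h1 (Alg6.one_le_depth_iff.2 h)
    have hbot : maximalIdeal (Y.presheaf.stalk y) = ⊥ := by
      obtain ⟨-, z, hz⟩ := Alg6.mem_ass_iff.1 hass
      refine le_antisymm (fun r hr => ?_) bot_le
      have hz0 : z ≠ 0 := fun h => (maximalIdeal.isMaximal (Y.presheaf.stalk y)).ne_top
        ((Ideal.eq_top_iff_one _).2 ((hz 1).2 (by rw [h, smul_zero])))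
      have := (hz r).1 hr
      rw [smul_eq_mul] at this
      exact (Submodule.mem_bot _).2 ((mul_eq_zero.1 this).resolve_right hz0)
    exact good_of_field f J (maximal_of_maximalIdeal_eq_bot hbot) (hmax y (maximal_of_maximalIdeal_eq_bot hbot))

end Groth.Agent.Div21Lib
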